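import Mathlib
import Cfsg.Agent.S0751
import Cfsg.Agent.Helper99.RDecompD

set_option autoImplicit false
set_option linter.unusedSectionVars false
set_option linter.unusedVariables false

/-!
# Hermitian (sesquilinear, symmetric) forms over finite fields: relative nondegeneracy,
orthogonality of subspaces, complements

Port of `Helper99.SpStructA` (bilinear case) to `B : V →ₛₗ[σ] V →ₗ[F] F`.
Convention: `B` is `σ`-semilinear in the FIRST and linear in the SECOND variable
(as `Cfsg.Agent.S0837.hB`, for which `hB x y = hermForm y x`).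
-/

namespace Cfsg.Agent.Helper94.Uh

open Module

universe u v

variable {F : Type u} [Field F] {V : Type v} [AddCommGroup V] [Module F V]
variable {σ : F →+* F}

/-- the orthogonal of a subspace -/
abbrev orth (B : V →ₛₗ[σ] V →ₗ[F] F) (W : Submodule F V) : Submodule F V := W.orthogonalBilin B

/-- relative nondegeneracy -/
def Nd (B : V →ₛₗ[σ] V →ₗ[F] F) (W : Submodule F V) : Prop := Disjoint W (orth B W)

/-- orthogonality of two subspaces -/
def Orth (B : V →ₛₗ[σ] V →ₗ[F] F) (U W : Submodule F V) : Prop :=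
  ∀ u ∈ U, ∀ w ∈ W, B u w = 0

variable {B : V →ₛₗ[σ] V →ₗ[F] F}

theorem mem_orth {W : Submodule F V} {v : V} : v ∈ orth B W ↔ ∀ w ∈ W, B w v = 0 := by
  unfold orth
  rw [Submodule.mem_orthogonalBilin_iff]

theorem symm_zero (hS : B.IsSymm) {x y : V} (h : B x y = 0) : B y x = 0 := by
  rw [← hS.eq x y, h, map_zero]

theorem nd_iff {W : Submodule F V} :
    Nd B W ↔ ∀ u ∈ W, (∀ w ∈ W, B w u = 0) → u = 0 := by
  unfold Nd
  rw [Submodule.disjoint_def]
  constructor
  · intro h u hu hu'
    exact h u hu (mem_orth.mpr hu')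
  · intro h u hu hu'
    exact h u hu (mem_orth.mp hu')

theorem nd_bot : Nd B (⊥ : Submodule F V) := by
  unfold Nd
  exact disjoint_bot_left

theorem Orth.symm (hS : B.IsSymm) {U W : Submodule F V} (h : Orth B U W) : Orth B W U :=
  fun w hw u hu => symm_zero hS (h u hu w hw)

theorem orth_iff_le {U W : Submodule F V} : Orth B U W ↔ W ≤ orth B U := by
  constructor
  · intro h w hw
    exact mem_orth.mpr (fun u hu => h u hu w hw)
  · intro h u hu w hw
    exact mem_orth.mp (h hw) u hu

theorem Orth.mono {U W U' W' : Submodule F V} (h : Orth B U W) (hU : U' ≤ U) (hW : W' ≤ W) :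
    Orth B U' W' := fun u hu w hw => h u (hU hu) w (hW hw)

theorem Orth.sup_left {U₁ U₂ W : Submodule F V} (h₁ : Orth B U₁ W) (h₂ : Orth B U₂ W) :
    Orth B (U₁ ⊔ U₂) W := by
  intro u hu w hw
  obtain ⟨a, ha, b, hb, rfl⟩ := Submodule.mem_sup.mp hu
  rw [map_add, LinearMap.add_apply, h₁ a ha w hw, h₂ b hb w hw, add_zero]

theorem Orth.sup_right {U W₁ W₂ : Submodule F V} (h₁ : Orth B U W₁) (h₂ : Orth B U W₂) :
    Orth B U (W₁ ⊔ W₂) := by
  intro u hu w hw
  obtain ⟨a, ha, b, hb, rfl⟩ := Submodule.mem_sup.mp hw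
  rw [map_add, h₁ u hu a ha, h₂ u hu b hb, add_zero]

theorem Orth.iSup_right {ι : Sort*} {U : Submodule F V} {W : ι → Submodule F V}
    (h : ∀ i, Orth B U (W i)) : Orth B U (⨆ i, W i) := by
  rw [orth_iff_le]
  exact iSup_le fun i => orth_iff_le.mp (h i)

theorem Orth.disjoint {U W : Submodule F V} (h : Orth B U W) (hU : Nd B U) :
    Disjoint U W := by
  rw [Submodule.disjoint_def]
  intro x hxU hxW
  exact nd_iff.mp hU x hxU (fun w hw => h w hw x hxW)

/-- orthogonal sum of nondegenerate subspaces is nondegenerate -/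
theorem Nd.sup (hS : B.IsSymm) {U W : Submodule F V} (hU : Nd B U) (hW : Nd B W)
    (h : Orth B U W) : Nd B (U ⊔ W) := by
  rw [nd_iff]
  intro x hx hx'
  obtain ⟨a, ha, b, hb, rfl⟩ := Submodule.mem_sup.mp hx
  have ha0 : a = 0 := by
    apply nd_iff.mp hU a ha
    intro u hu
    have := hx' u (Submodule.mem_sup_left hu)
    rwa [map_add, h u hu b hb, add_zero] at this
  have hb0 : b = 0 := by
    apply nd_iff.mp hW b hb
    intro w hw
    have := hx' w (Submodule.mem_sup_right hw)
    rwa [map_add, h.symm hS w hw a ha, zero_add] at this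
  rw [ha0, hb0, add_zero]

theorem orth_anti {U W : Submodule F V} (h : U ≤ W) : orth B W ≤ orth B U :=
  fun v hv => mem_orth.mpr (fun u hu => mem_orth.mp hv u (h hu))

theorem le_orth_orth (hS : B.IsSymm) (W : Submodule F V) : W ≤ orth B (orth B W) :=
  fun w hw => mem_orth.mpr (fun v hv => symm_zero hS (mem_orth.mp hv w hw))

variable [Finite F] [FiniteDimensional F V]

/-- dimension of the orthogonal (ambient form nondegenerate) -/
theorem finrank_orth_add (hS : B.IsSymm) (hnd : B.SeparatingLeft) (W : Submodule F V) :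
    finrank F ↥(orth B W) + finrank F ↥W = finrank F V :=
  Cfsg.Agent.S0751.finrank_orth B hS hnd W

theorem orth_orth (hS : B.IsSymm) (hnd : B.SeparatingLeft) (W : Submodule F V) :
    orth B (orth B W) = W := by
  symm
  apply Submodule.eq_of_le_of_finrank_eq (le_orth_orth hS W)
  have h1 := finrank_orth_add hS hnd W
  have h2 := finrank_orth_add hS hnd (orth B W)
  omega

theorem Nd.isCompl (hS : B.IsSymm) (hnd : B.SeparatingLeft) {C : Submodule F V} (hC : Nd B C) :
    IsCompl C (orth B C) := by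
  refine ⟨hC, ?_⟩
  rw [codisjoint_iff]
  apply Submodule.eq_top_of_finrank_eq
  have h1 := finrank_orth_add hS hnd C
  have h2 := Cfsg.Agent.Helper99.RDecomp.finrank_sup_of_disjoint hC
  omega

/-- splitting off a nondegenerate piece -/
theorem Nd.sup_inf_orth (hS : B.IsSymm) (hnd : B.SeparatingLeft) {C M : Submodule F V}
    (hCM : C ≤ M) (hC : Nd B C) :
    C ⊔ (M ⊓ orth B C) = M ∧ Disjoint C (M ⊓ orth B C) := by
  have hcompl := hC.isCompl hS hnd
  refine ⟨?_, Disjoint.mono_right inf_le_right hcompl.disjoint⟩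
  rw [inf_comm, ← sup_inf_assoc_of_le _ hCM, hcompl.sup_eq_top, top_inf_eq]

theorem Nd.finrank_inf_orth (hS : B.IsSymm) (hnd : B.SeparatingLeft) {C M : Submodule F V}
    (hCM : C ≤ M) (hC : Nd B C) :
    finrank F ↥C + finrank F ↥(M ⊓ orth B C) = finrank F ↥M := by
  obtain ⟨h1, h2⟩ := hC.sup_inf_orth hS hnd hCM
  rw [← Cfsg.Agent.Helper99.RDecomp.finrank_sup_of_disjoint h2, h1]

theorem orth_inf_orth {C M : Submodule F V} : Orth B C (M ⊓ orth B C) :=
  orth_iff_le.mpr inf_le_right

/-- the orthogonal complement of a nondegenerate subspace inside a nondegenerate subspace is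
nondegenerate -/
theorem Nd.inf_orth (hS : B.IsSymm) (hnd : B.SeparatingLeft) {C M : Submodule F V}
    (hCM : C ≤ M) (hC : Nd B C) (hM : Nd B M) : Nd B (M ⊓ orth B C) := by
  rw [nd_iff]
  intro x hx hx'
  apply nd_iff.mp hM x hx.1
  intro w hw
  obtain ⟨h1, -⟩ := hC.sup_inf_orth hS hnd hCM
  rw [← h1] at hw
  obtain ⟨a, ha, b, hb, rfl⟩ := Submodule.mem_sup.mp hw
  rw [map_add, LinearMap.add_apply, hx' b hb, add_zero]
  exact mem_orth.mp hx.2 a ha

theorem nd_top (hnd : B.SeparatingLeft) (hS : B.IsSymm) : Nd B (⊤ : Submodule F V) := by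
  rw [nd_iff]
  intro u _ hu
  have h1 : ∀ w, B u w = 0 := fun w => symm_zero hS (hu w trivial)
  exact hnd u h1

/-- dimension of the relative orthogonal -/
theorem finrank_inf_orth_of_le (hS : B.IsSymm) (hnd : B.SeparatingLeft) {U W : Submodule F V}
    (hUW : U ≤ W) (hW : Nd B W) :
    finrank F ↥(W ⊓ orth B U) + finrank F ↥U = finrank F ↥W := by
  -- `W ⊓ U^⊥ = (U ⊔ W^⊥)^⊥`, and `U ⊓ W^⊥ = ⊥`
  have hdis : Disjoint U (orth B W) := hW.mono_left hUW
  have heq : W ⊓ orth B U = orth B (U ⊔ orth B W) := by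
    apply le_antisymm
    · intro x hx
      rw [mem_orth]
      intro w hw
      obtain ⟨a, ha, b, hb, rfl⟩ := Submodule.mem_sup.mp hw
      rw [map_add, LinearMap.add_apply, mem_orth.mp hx.2 a ha, zero_add]
      exact symm_zero hS (mem_orth.mp hb x hx.1)
    · intro x hx
      refine ⟨?_, orth_anti le_sup_left hx⟩
      have := orth_anti (le_sup_right : orth B W ≤ U ⊔ orth B W) hx
      rwa [orth_orth hS hnd] at this
  rw [heq]
  have h1 := finrank_orth_add hS hnd (U ⊔ orth B W)
  have h2 := Cfsg.Agent.Helper99.RDecomp.finrank_sup_of_disjoint hdis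
  have h3 := finrank_orth_add hS hnd W
  omega

/-- a totally isotropic subspace of a nondegenerate subspace has at most half the dimension -/
theorem ti_finrank_le (hS : B.IsSymm) (hnd : B.SeparatingLeft) {U W : Submodule F V}
    (hUW : U ≤ W) (hW : Nd B W) (hU : Orth B U U) : 2 * finrank F ↥U ≤ finrank F ↥W := by
  have h1 := finrank_inf_orth_of_le hS hnd hUW hW
  have h2 : U ≤ W ⊓ orth B U := le_inf hUW (orth_iff_le.mp hU)
  have h3 := Submodule.finrank_mono h2
  omega

end Cfsg.Agent.Helper94.Uh
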