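import Mathlib
import Cfsg.Agent.Helper94.Uh.Basic
import Cfsg.Agent.Helper99.SpStructC
import Cfsg.Agent.S0837

set_option autoImplicit false
set_option linter.unusedSectionVars false
set_option linter.unusedVariables false

/-!
# Semisimple isometries of hermitian spaces over finite fields: the data

`UIso B y n`: `y` is an isometry of the nondegenerate hermitian form `B` with `y ^ n = 1`,
`n` invertible in `F`.
`HSetup B q r y`: moreover `|F| = q ^ 2`, `σ = (· ^ q)`, `n = r` is a prime.

Unitary analogue of `Helper99.SpStruct.SpSetup` / `Helper94.Ti.IsoSetup`.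
-/

namespace Cfsg.Agent.Helper94.Uh

open Module Polynomial
open Cfsg.Agent.Helper59.InvChain Cfsg.Agent.Helper59.Elusive
open Cfsg.Agent.Helper99.RDecomp

universe u v

variable {F : Type u} [Field F] [Fintype F] {V : Type v} [AddCommGroup V] [Module F V]
  [FiniteDimensional F V] {σ : F →+* F}

/-- a semisimple isometry of a nondegenerate hermitian space -/
structure UIso (B : V →ₛₗ[σ] V →ₗ[F] F) (y : Module.End F V) (n : ℕ) : Prop where
  symm : B.IsSymm
  nondeg : B.SeparatingLeft
  isom : ∀ u v, B (y u) (y v) = B u v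
  ne_zero : (n : F) ≠ 0
  pow_eq : y ^ n = 1

/-- the data: `|F| = q ^ 2`, `σ = (· ^ q)`, a nondegenerate hermitian form, an isometry `y` with
`y ^ r = 1`, `r` a prime different from the characteristic. -/
structure HSetup (B : V →ₛₗ[σ] V →ₗ[F] F) (q r : ℕ) (y : Module.End F V) : Prop where
  card : Fintype.card F = q ^ 2
  frob : ∀ a : F, σ a = a ^ q
  symm : B.IsSymm
  nondeg : B.SeparatingLeft
  isom : ∀ u v, B (y u) (y v) = B u v
  setup : Setup r y (orderOf ((Fintype.card F : ℕ) : ZMod r))
  hp : HP (cyclotomic r F) (orderOf ((Fintype.card F : ℕ) : ZMod r))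

/-- the self-dual case: `i = ord_r(q) ≡ 2 (mod 4)` -/
def SD (q r : ℕ) : Prop := orderOf (q : ZMod r) % 4 = 2

open Classical in
/-- the unitary block size: `b` in the self-dual case, `2 b` otherwise -/
noncomputable def ublock (q r b : ℕ) : ℕ := if SD q r then b else 2 * b

theorem ublock_sd {q r b : ℕ} (h : SD q r) : ublock q r b = b := by
  unfold ublock; rw [if_pos h]

theorem ublock_nsd {q r b : ℕ} (h : ¬ SD q r) : ublock q r b = 2 * b := by
  unfold ublock; rw [if_neg h]

theorem ublock_pos {q r b : ℕ} (hb : 0 < b) : 0 < ublock q r b := by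
  unfold ublock; split_ifs <;> omega

variable {B : V →ₛₗ[σ] V →ₗ[F] F} {y : Module.End F V} {n q r : ℕ}

theorem HSetup.toIso (h : HSetup B q r y) : UIso B y r :=
  ⟨h.symm, h.nondeg, h.isom, h.setup.ne_zero, h.setup.pow_eq⟩

theorem UIso.pos (h : UIso B y n) : 0 < n := by
  rcases Nat.eq_zero_or_pos n with h0 | h0
  · exfalso
    apply h.ne_zero
    rw [h0, Nat.cast_zero]
  · exact h0

theorem UIso.isom_pow (h : UIso B y n) (k : ℕ) (u v : V) :
    B ((y ^ k) u) ((y ^ k) v) = B u v := by
  induction k with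
  | zero => simp
  | succ k ih => rw [pow_succ', Module.End.mul_apply, Module.End.mul_apply, h.isom, ih]

theorem pow_mem_of_inv {W : Submodule F V} (hW : Inv y W) (k : ℕ) {x : V} (hx : x ∈ W) :
    (y ^ k) x ∈ W := by
  have := hW.aeval_mem (X ^ k : F[X]) hx
  rwa [map_pow, aeval_X] at this

/-- orthogonals of invariant subspaces are invariant -/
theorem UIso.inv_orth (h : UIso B y n) {W : Submodule F V} (hW : Inv y W) :
    Inv y (orth B W) := by
  rw [inv_iff]
  intro m hm
  rw [mem_orth] at hm ⊢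
  intro w hw
  have hn := h.pos
  have h1 : w = y ((y ^ (n - 1)) w) := by
    rw [← Module.End.mul_apply, ← pow_succ', Nat.sub_add_cancel hn, h.pow_eq]
    rfl
  rw [h1, h.isom]
  exact hm _ (pow_mem_of_inv hW _ hw)

/-- the adjoint of `y ^ k` is `(y ^ (n - 1)) ^ k` -/
theorem UIso.adjoint_pow (h : UIso B y n) (k : ℕ) (u v : V) :
    B ((y ^ k) u) v = B u (((y ^ (n - 1)) ^ k) v) := by
  have hn := h.pos
  have h1 : y ^ k * (y ^ (n - 1)) ^ k = 1 := by
    have h0 : y * y ^ (n - 1) = 1 := by
      rw [← pow_succ', Nat.sub_add_cancel hn, h.pow_eq]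
    have hc : Commute y (y ^ (n - 1)) := Commute.pow_right (Commute.refl y) _
    rw [← hc.mul_pow, h0, one_pow]
  have h2 : v = (y ^ k) (((y ^ (n - 1)) ^ k) v) := by
    rw [← Module.End.mul_apply, h1]
    rfl
  conv_lhs => rw [h2]
  exact h.isom_pow k _ _

theorem HSetup.isom_pow (h : HSetup B q r y) (k : ℕ) (u v : V) :
    B ((y ^ k) u) ((y ^ k) v) = B u v := h.toIso.isom_pow k u v

theorem HSetup.inv_orth (h : HSetup B q r y) {W : Submodule F V} (hW : Inv y W) :
    Inv y (orth B W) := h.toIso.inv_orth hW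

theorem HSetup.prime (h : HSetup B q r y) : r.Prime := h.setup.prime

theorem HSetup.b_pos (h : HSetup B q r y) : 0 < orderOf ((Fintype.card F : ℕ) : ZMod r) :=
  h.setup.c_pos

theorem HSetup.sigma_sigma (h : HSetup B q r y) (a : F) : σ (σ a) = a := by
  rw [h.frob, h.frob, ← pow_mul, ← pow_two, ← h.card, FiniteField.pow_card]

theorem HSetup.two_le_q (h : HSetup B q r y) : 2 ≤ q :=
  Cfsg.Agent.Helper13.two_le_of_card_eq_sq h.card

theorem HSetup.sigma_eq (h : HSetup B q r y) : σ = Cfsg.Agent.S0837.frobHom h.card := by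
  ext a
  rw [h.frob, Cfsg.Agent.S0837.frobHom_apply]

theorem HSetup.sigma_ne_id (h : HSetup B q r y) : σ ≠ RingHom.id F := by
  rw [h.sigma_eq]
  exact Cfsg.Agent.S0837.frobHom_ne_id h.card

end Cfsg.Agent.Helper94.Uh
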