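import Mathlib
import Cfsg.Agent.Helper94.Uh.Defs
import Cfsg.Agent.Helper99.RElt

set_option autoImplicit false
set_option linter.unusedSectionVars false
set_option linter.unusedVariables false

/-!
# The concrete hermitian space `Fin n → F` with `Cfsg.hermForm n F q`: definitions and the bridge
to the abstract engine (`S0837.hB hF n`, for which `hB x y = hermForm y x`)
-/

namespace Cfsg.Agent.Helper94.Uh

open Module Polynomial
open Cfsg.Agent.Helper59.InvChain Cfsg.Agent.Helper59.Elusive
open Cfsg.Agent.Helper99.RDecomp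
open Cfsg.Agent.S0837

universe u

variable {F : Type u} [Field F] [Fintype F] {q n : ℕ}

/-- the matrix `A` preserves the hermitian form -/
def IsUM (n q : ℕ) (A : Matrix (Fin n) (Fin n) F) : Prop :=
  ∀ u v, Cfsg.hermForm n F q (A.mulVec u) (A.mulVec v) = Cfsg.hermForm n F q u v

/-- `A` fixes a totally isotropic `m`-space (the conclusion of S5953 for one element) -/
def GoodU (n q m : ℕ) (A : Matrix (Fin n) (Fin n) F) : Prop :=
  ∃ W : Submodule F (Fin n → F), Module.finrank F ↥W = m ∧
    (∀ u ∈ W, ∀ v ∈ W, Cfsg.hermForm n F q u v = 0) ∧ W.map (Matrix.toLin' A) ≤ W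

/-- the hypothesis of S5953 in matrix form: every unitary matrix of determinant one which is not
scalar and whose `r`-th power is scalar fixes a totally isotropic `m`-space -/
def UHyp (F : Type u) [Field F] (n q m r : ℕ) : Prop :=
  ∀ A : Matrix (Fin n) (Fin n) F, IsUM n q A → A.det = 1 →
    (∃ z : F, A ^ r = z • (1 : Matrix (Fin n) (Fin n) F)) →
    (∀ z : F, A ≠ z • (1 : Matrix (Fin n) (Fin n) F)) → GoodU n q m A

/-- the same for elements with `A ^ r = 1` only -/
def UProp (F : Type u) [Field F] (n q m r : ℕ) : Prop :=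
  ∀ A : Matrix (Fin n) (Fin n) F, IsUM n q A → A.det = 1 → A ^ r = 1 →
    (∀ z : F, A ≠ z • (1 : Matrix (Fin n) (Fin n) F)) → GoodU n q m A

theorem UHyp.uprop {m r : ℕ} (H : UHyp F n q m r) : UProp F n q m r :=
  fun A hA hdet hAr hns => H A hA hdet ⟨1, by rw [hAr, one_smul]⟩ hns

theorem finrank_space : finrank F (Fin n → F) = n := by
  rw [Module.finrank_fintype_fun_eq_card, Fintype.card_fin]

theorem orth_self_iff (hF : Fintype.card F = q ^ 2) {W : Submodule F (Fin n → F)} :
    Orth (hB hF n) W W ↔ ∀ u ∈ W, ∀ v ∈ W, Cfsg.hermForm n F q u v = 0 := by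
  constructor
  · intro h u hu v hv
    have := h v hv u hu
    rwa [hB_apply] at this
  · intro h u hu w hw
    rw [hB_apply]
    exact h w hw u hu

theorem toLin_pow (A : Matrix (Fin n) (Fin n) F) (k : ℕ) :
    (Matrix.toLin' A) ^ k = Matrix.toLin' (A ^ k) := by
  induction k with
  | zero => rw [pow_zero, pow_zero, Matrix.toLin'_one]; rfl
  | succ k ih => rw [pow_succ, pow_succ, Matrix.toLin'_mul, ih]; rfl

theorem isom_toLin (hF : Fintype.card F = q ^ 2) {A : Matrix (Fin n) (Fin n) F}
    (hA : IsUM n q A) (u v : Fin n → F) :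
    hB hF n (Matrix.toLin' A u) (Matrix.toLin' A v) = hB hF n u v := by
  rw [hB_apply, hB_apply, Matrix.toLin'_apply, Matrix.toLin'_apply]
  exact hA v u

variable {p : ℕ} [Fact p.Prime] [CharP F p]

/-- the engine data of a unitary matrix of order dividing `r` -/
theorem hSetup_of (hF : Fintype.card F = q ^ 2) (r : ℕ) [Fact r.Prime] (hrp : r ≠ p)
    {A : Matrix (Fin n) (Fin n) F} (hA : IsUM n q A) (hAr : A ^ r = 1) :
    HSetup (hB hF n) q r (Matrix.toLin' A) where
  card := hF
  frob := fun a => frobHom_apply hF a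
  symm := hB_isSymm hF n
  nondeg := (hB_nondegenerate hF n).1
  isom := isom_toLin hF hA
  setup := setup_of r hrp _ (by rw [toLin_pow, hAr, Matrix.toLin'_one]; rfl)
  hp := HP_cyclotomic r hrp

/-- a unitary matrix with `A ^ N = 1`, `N` invertible in `F` -/
theorem uIso_of (hF : Fintype.card F = q ^ 2) {A : Matrix (Fin n) (Fin n) F} (hA : IsUM n q A)
    {N : ℕ} (hN : (N : F) ≠ 0) (hAN : A ^ N = 1) : UIso (hB hF n) (Matrix.toLin' A) N where
  symm := hB_isSymm hF n
  nondeg := (hB_nondegenerate hF n).1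
  isom := isom_toLin hF hA
  ne_zero := hN
  pow_eq := by rw [toLin_pow, hAN, Matrix.toLin'_one]; rfl

/-- from the engine to the statement -/
theorem goodU_of_exists (hF : Fintype.card F = q ^ 2) {m : ℕ} {A : Matrix (Fin n) (Fin n) F}
    (h : ∃ W : Submodule F (Fin n → F), finrank F ↥W = m ∧ Orth (hB hF n) W W ∧
      Inv (Matrix.toLin' A) W) : GoodU n q m A := by
  obtain ⟨W, h1, h2, h3⟩ := h
  exact ⟨W, h1, (orth_self_iff hF).mp h2, h3⟩

theorem exists_of_goodU (hF : Fintype.card F = q ^ 2) {m : ℕ} {A : Matrix (Fin n) (Fin n) F}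
    (h : GoodU n q m A) : ∃ W : Submodule F (Fin n → F), finrank F ↥W = m ∧
      Orth (hB hF n) W W ∧ Inv (Matrix.toLin' A) W := by
  obtain ⟨W, h1, h2, h3⟩ := h
  exact ⟨W, h1, (orth_self_iff hF).mpr h2, h3⟩

end Cfsg.Agent.Helper94.Uh
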