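import Mathlib
import Cfsg.Agent.Helper94.Uh.Defs

set_option autoImplicit false
set_option linter.unusedSectionVars false
set_option linter.unusedVariables false

/-!
# (ADJ) adjoints of polynomials in `y`; the self-dual case `ord_r(q) ≡ 2 (mod 4)`

Port of `Helper99.SpStruct.SpSetup.adjoint_aeval / inv_eq_pow / orth_of_aeval_eq_zero /
orth_ker_of_coprime / nd_inf_ker` (Cfsg/Agent/Helper99/SpStructC.lean).

`B` is `σ`-semilinear in the first variable, so the adjoint of `g(y)` is `(g.map σ)(y⁻¹)`.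
Self-dual case (`SD q r`): with `b = ord_r(q²)` one has `b` odd and `q ^ b ≡ -1 (mod r)`, hence
`y⁻¹ = y ^ (q ^ b)` and `(g.map σ)(y ^ (q ^ b)) = g(y) ^ (q ^ b)`
(`(aeval y g) ^ q = aeval (y ^ q) (g.map σ)`: `Polynomial.map_iterateFrobenius_expand` or
`Polynomial.expand_char`-style, `σ = (· ^ q)`, `σ ∘ σ = id`), so `ker g(y) ≤ ker g(y)^*`.
(Proofs: helper53.)
-/

namespace Cfsg.Agent.Helper94.Uh

open Module Polynomial
open Cfsg.Agent.Helper59.InvChain Cfsg.Agent.Helper59.Elusive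
open Cfsg.Agent.Helper99.RDecomp

universe u v

variable {F : Type u} [Field F] [Fintype F] {V : Type v} [AddCommGroup V] [Module F V]
  [FiniteDimensional F V] {σ : F →+* F} {B : V →ₛₗ[σ] V →ₗ[F] F} {y : Module.End F V} {n q r : ℕ}

theorem UIso.adjoint_aeval (h : UIso B y n) (g : F[X]) (u v : V) :
    B ((aeval y g) u) v = B u ((aeval (y ^ (n - 1)) (g.map σ)) v) := by
  have hdeg : (g.map σ).natDegree < g.natDegree + 1 :=
    Nat.lt_succ_of_le (natDegree_map_le)
  rw [aeval_eq_sum_range, aeval_eq_sum_range' hdeg]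
  simp only [LinearMap.sum_apply, LinearMap.smul_apply, map_sum, map_smul, map_smulₛₗ, smul_eq_mul,
    coeff_map]
  apply Finset.sum_congr rfl
  intro k _
  rw [h.adjoint_pow]

/-- arithmetic of the self-dual case -/
theorem sd_arith {q r : ℕ} (hr : r.Prime) (hsd : SD q r) :
    Odd (orderOf ((q ^ 2 : ℕ) : ZMod r)) ∧
      (q : ZMod r) ^ orderOf ((q ^ 2 : ℕ) : ZMod r) = -1 := by
  have : Fact r.Prime := ⟨hr⟩
  unfold SD at hsd
  set i := orderOf (q : ZMod r) with hi
  have hipos : 0 < i := by omega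
  have hieven : Even i := ⟨i / 2, by omega⟩
  have hord : orderOf ((q ^ 2 : ℕ) : ZMod r) = i / 2 := by
    have h1 : ((q ^ 2 : ℕ) : ZMod r) = (q : ZMod r) ^ 2 := by push_cast; rfl
    rw [h1, orderOf_pow' _ (by norm_num : (2 : ℕ) ≠ 0), ← hi]
    have h2 : Nat.gcd i 2 = 2 := by
      apply Nat.gcd_eq_right
      omega
    rw [h2]
  rw [hord]
  refine ⟨⟨i / 4, by omega⟩, ?_⟩
  have hdvd := Cfsg.Agent.Helper99.SpStruct.dvd_pow_half_add_one' hr hi hieven hipos
  rw [← ZMod.natCast_eq_zero_iff] at hdvd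
  push_cast at hdvd
  exact eq_neg_of_add_eq_zero_left hdvd

/-- in the self-dual case `y⁻¹` is a Frobenius power of `y` -/
theorem HSetup.inv_eq_pow (h : HSetup B q r y) (hsd : SD q r) :
    y ^ (r - 1) = y ^ (q ^ orderOf ((Fintype.card F : ℕ) : ZMod r)) := by
  have hr := h.setup.prime.pos
  have hcard : Fintype.card F = q ^ 2 := h.card
  rw [hcard]
  obtain ⟨-, harith⟩ := sd_arith h.setup.prime hsd
  set b := orderOf ((q ^ 2 : ℕ) : ZMod r) with hb
  have hdvd : r ∣ q ^ b + 1 := by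
    rw [← ZMod.natCast_eq_zero_iff]
    push_cast
    rw [harith, neg_add_cancel]
  obtain ⟨t, ht⟩ := hdvd
  set s := q ^ b with hs
  have h1 : y ^ (s + 1) = 1 := by rw [ht, pow_mul, h.setup.pow_eq, one_pow]
  have h2 : y * y ^ (r - 1) = 1 := by
    rw [← pow_succ', Nat.sub_add_cancel hr, h.setup.pow_eq]
  calc y ^ (r - 1) = y ^ (s + 1) * y ^ (r - 1) := by rw [h1, one_mul]
    _ = y ^ s * (y * y ^ (r - 1)) := by rw [pow_succ, mul_assoc]
    _ = y ^ s := by rw [h2, mul_one]

/-- the Frobenius twist: `g(y) ^ q = (g.map σ)(y ^ q)` -/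
private theorem ADJ_aeval_pow_q (h : HSetup B q r y) (x : Module.End F V) (g : F[X]) :
    (aeval x g) ^ q = aeval (x ^ q) (g.map σ) := by
  set p := ringChar F with hp
  have : CharP F p := ringChar.charP F
  obtain ⟨m, hpp, hm⟩ := FiniteField.card F p
  have : Fact p.Prime := ⟨hpp⟩
  have hq2 : q ^ 2 = p ^ (m : ℕ) := by rw [← h.card, hm]
  have hqd : q ∣ p ^ (m : ℕ) := ⟨q, by rw [← hq2, pow_two]⟩
  obtain ⟨e, -, he⟩ := (Nat.dvd_prime_pow hpp).mp hqd
  have hσ : σ = iterateFrobenius F p e := by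
    ext a
    rw [h.frob, iterateFrobenius_def, he]
  rw [← map_pow, he, ← map_iterateFrobenius_expand (p := p) g e, map_expand, expand_aeval, ← hσ]

/-- odd Frobenius powers -/
private theorem ADJ_aeval_pow_q_pow (h : HSetup B q r y) (g : F[X]) (m : ℕ) :
    (aeval y g) ^ (q ^ (2 * m + 1)) = aeval (y ^ (q ^ (2 * m + 1))) (g.map σ) := by
  have hcard : Fintype.card F = q ^ 2 := h.card
  have h1 := Cfsg.Agent.Helper99.SpStruct.aeval_pow_card_pow y g m
  rw [hcard, ← pow_mul] at h1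
  rw [pow_succ, pow_mul, h1, ADJ_aeval_pow_q h, ← pow_mul]

/-- self-duality: in the self-dual case, `g(y) u = 0` implies `u ⊥ g(y) V`. -/
theorem HSetup.orth_of_aeval_eq_zero (h : HSetup B q r y) (hsd : SD q r) (g : F[X]) {u : V}
    (hu : (aeval y g) u = 0) (v : V) : B u ((aeval y g) v) = 0 := by
  apply symm_zero h.symm
  have hcard : Fintype.card F = q ^ 2 := h.card
  obtain ⟨hodd, -⟩ := sd_arith h.setup.prime hsd
  obtain ⟨m, hm⟩ := hodd
  have hinv := h.inv_eq_pow hsd
  rw [hcard, hm] at hinv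
  rw [h.toIso.adjoint_aeval, hinv, ← ADJ_aeval_pow_q_pow h]
  have hspos : 0 < q ^ (2 * m + 1) := pow_pos (by have := h.two_le_q; omega) _
  obtain ⟨s', hs'⟩ : ∃ s', q ^ (2 * m + 1) = s' + 1 := ⟨_, (Nat.succ_pred_eq_of_pos hspos).symm⟩
  rw [hs', pow_succ, Module.End.mul_apply, hu, map_zero, map_zero]

theorem HSetup.orth_ker_of_coprime (h : HSetup B q r y) (hsd : SD q r) {P P' : F[X]}
    (hcop : IsCoprime P P') :
    Orth B (LinearMap.ker (aeval y P)) (LinearMap.ker (aeval y P')) := by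
  intro u hu v hv
  obtain ⟨a, b, hab⟩ := hcop
  have h1 : v = (aeval y P) ((aeval y a) v) := by
    have h2 : (aeval y (a * P + b * P')) v = v := by rw [hab, map_one]; rfl
    rw [map_add, LinearMap.add_apply, map_mul, map_mul, Module.End.mul_apply, Module.End.mul_apply,
      LinearMap.mem_ker.mp hv, map_zero, add_zero] at h2
    rw [← Module.End.mul_apply, ← map_mul, mul_comm, map_mul, Module.End.mul_apply]
    exact h2.symm
  rw [h1]
  exact h.orth_of_aeval_eq_zero hsd P (LinearMap.mem_ker.mp hu) _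

theorem HSetup.nd_inf_ker (h : HSetup B q r y) (hsd : SD q r) {P P' : F[X]}
    (hcop : IsCoprime P P') {W : Submodule F V} (hWinv : Inv y W) (hW : Nd B W)
    (hkill : ∀ w ∈ W, (aeval y (P * P')) w = 0) : Nd B (W ⊓ LinearMap.ker (aeval y P)) := by
  rw [nd_iff]
  intro u hu hu'
  apply nd_iff.mp hW u hu.1
  intro w hw
  obtain ⟨a, b, hab⟩ := hcop
  have h2 : w = (aeval y (b * P')) w + (aeval y (a * P)) w := by
    rw [← LinearMap.add_apply, ← map_add, add_comm, hab, map_one]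
    rfl
  rw [h2, map_add, LinearMap.add_apply]
  have h3 : (aeval y (b * P')) w ∈ W ⊓ LinearMap.ker (aeval y P) := by
    refine Submodule.mem_inf.mpr ⟨hWinv.aeval_mem _ hw, ?_⟩
    rw [LinearMap.mem_ker, ← Module.End.mul_apply, ← map_mul]
    have h4 : P * (b * P') = b * (P * P') := by ring
    rw [h4, map_mul, Module.End.mul_apply, hkill w hw, map_zero]
  have h5 : (aeval y (a * P)) w ∈ LinearMap.ker (aeval y P') := by
    rw [LinearMap.mem_ker, ← Module.End.mul_apply, ← map_mul]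
    have h4 : P' * (a * P) = a * (P * P') := by ring
    rw [h4, map_mul, Module.End.mul_apply, hkill w hw, map_zero]
  rw [hu' _ h3, zero_add]
  exact ((h.orth_ker_of_coprime hsd ⟨a, b, hab⟩).symm h.symm) _ h5 u hu.2

end Cfsg.Agent.Helper94.Uh
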