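import Mathlib
import Cfsg.Agent.Helper94.Uh.Defs
import Cfsg.Agent.Helper43.GUPrimeE
import Cfsg.Agent.Helper55.UNdW

set_option autoImplicit false
set_option linter.unusedSectionVars false
set_option linter.unusedVariables false
set_option linter.style.haveILetI false

/-!
# (AR) arithmetic of `i = ord_r(q)`, `b = ord_r(q²)`, `c = ord_r(-q) = ublock q r b`

`r` an odd prime not dividing `q`.  `b = i / 2` for even `i`, `b = i` for odd `i`
(`Helper43.GUPrime.orderOf_sq_eq`); `c = b` if `i ≡ 2 (mod 4)` (`SD q r`), `c = 2 b` otherwise.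

(proved by helper97, board #8218 (AR))
-/

namespace Cfsg.Agent.Helper94.Uh

/-- the `b` of the statement S5953 -/
theorem b_eq {q r i b : ℕ} (hi : i = orderOf (q : ZMod r))
    (hb : b = if Even i then i / 2 else i) : b = orderOf ((q ^ 2 : ℕ) : ZMod r) := by
  apply Cfsg.Agent.Helper43.GUPrime.orderOf_sq_eq hi
  rw [hb]
  by_cases h : Even i
  · rw [if_pos h, if_neg (Nat.not_odd_iff_even.2 h)]
  · rw [if_neg h, if_pos (Nat.not_even_iff_odd.1 h)]

/-- the `c` of the statement S5953 -/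
theorem c_eq {q r i b c : ℕ} (hi : i = orderOf (q : ZMod r))
    (hb : b = if Even i then i / 2 else i)
    (hc : c = if i % 4 = 0 then i else if i % 4 = 2 then i / 2 else 2 * i) :
    c = ublock q r b := by
  unfold ublock SD
  rw [← hi, hc, hb]
  by_cases h0 : i % 4 = 0
  · have he : Even i := Nat.even_iff.2 (by omega)
    rw [if_pos h0, if_neg (by omega), if_pos he]
    omega
  · by_cases h2 : i % 4 = 2
    · have he : Even i := Nat.even_iff.2 (by omega)
      rw [if_neg h0, if_pos h2, if_pos h2, if_pos he]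
    · have he : ¬ Even i := by rw [Nat.even_iff]; omega
      rw [if_neg h0, if_neg h2, if_neg h2, if_neg he]

private theorem AR_odd_case {i e : ℕ} (he : Odd e) (h1 : i ∣ 2 * e) (h2 : ¬ i ∣ e) :
    i % 4 = 2 ∧ i / 2 ∣ e := by
  obtain ⟨k, hk⟩ := h1
  rcases Nat.even_or_odd i with ⟨j, hj⟩ | hodd
  · have hjk : e = j * k := by
      have : 2 * e = 2 * (j * k) := by rw [hk, hj]; ring
      omega
    have hjodd : Odd j := by
      rcases Nat.even_or_odd j with hj2 | hj2
      · exfalso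
        have : Even e := by rw [hjk]; exact hj2.mul_right k
        exact (Nat.not_even_iff_odd.2 he) this
      · exact hj2
    obtain ⟨t, ht⟩ := hjodd
    refine ⟨by omega, ?_⟩
    have : i / 2 = j := by omega
    rw [this]
    exact ⟨k, hjk⟩
  · exfalso
    apply h2
    have hcop : Nat.Coprime i 2 := Nat.coprime_two_right.2 hodd
    exact hcop.dvd_of_dvd_mul_left ⟨k, hk⟩

/-- `(-q)^e ≡ 1 (mod r)` forces `c ∣ e` -/
theorem ublock_dvd_of_dvd {q r : ℕ} (hr : r.Prime) (hr2 : r ≠ 2) (hrq : ¬ r ∣ q) {e : ℕ}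
    (h : (r : ℤ) ∣ (q : ℤ) ^ e - (-1) ^ e) :
    ublock q r (orderOf ((q ^ 2 : ℕ) : ZMod r)) ∣ e := by
  haveI : Fact r.Prime := ⟨hr⟩
  haveI : Fact (2 < r) := ⟨lt_of_le_of_ne hr.two_le (Ne.symm hr2)⟩
  set i := orderOf (q : ZMod r) with hi
  have hbeq : (if Even i then i / 2 else i) = orderOf ((q ^ 2 : ℕ) : ZMod r) := b_eq hi rfl
  rw [← hbeq]
  have hx : (q : ZMod r) ^ e = (-1) ^ e := by
    have h1 := (ZMod.intCast_zmod_eq_zero_iff_dvd ((q : ℤ) ^ e - (-1) ^ e) r).2 h
    push_cast at h1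
    exact sub_eq_zero.1 h1
  unfold ublock SD
  rw [← hi]
  rcases Nat.even_or_odd e with hev | hodd
  · -- `q ^ e = 1`
    have hx1 : (q : ZMod r) ^ e = 1 := by rw [hx, Even.neg_one_pow hev]
    have hie : i ∣ e := orderOf_dvd_of_pow_eq_one hx1
    by_cases h2 : i % 4 = 2
    · have hev' : Even i := Nat.even_iff.2 (by omega)
      rw [if_pos h2, if_pos hev']
      exact (Nat.div_dvd_of_dvd hev'.two_dvd).trans hie
    · rw [if_neg h2]
      by_cases hev' : Even i
      · rw [if_pos hev', Nat.mul_div_cancel' hev'.two_dvd]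
        exact hie
      · rw [if_neg hev']
        have hcop : Nat.Coprime 2 i := Nat.coprime_two_left.2 (Nat.not_even_iff_odd.1 hev')
        exact hcop.mul_dvd_of_dvd_of_dvd hev.two_dvd hie
  · -- `q ^ e = -1`
    have hx1 : (q : ZMod r) ^ e = -1 := by rw [hx, Odd.neg_one_pow hodd]
    have hx2 : (q : ZMod r) ^ (2 * e) = 1 := by
      rw [mul_comm, pow_mul, hx1]
      norm_num
    have h1 : i ∣ 2 * e := orderOf_dvd_of_pow_eq_one hx2
    have h2 : ¬ i ∣ e := by
      intro hd
      have := orderOf_dvd_iff_pow_eq_one.1 hd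
      rw [hx1] at this
      exact ZMod.neg_one_ne_one this
    obtain ⟨h4, hd⟩ := AR_odd_case hodd h1 h2
    have hev' : Even i := Nat.even_iff.2 (by omega)
    rw [if_pos h4, if_pos hev']
    exact hd

/-- `ord_r(q) = 2` iff `r ∣ q + 1` (`r` odd) -/
theorem orderOf_eq_two_iff {q r : ℕ} (hr : r.Prime) (hr2 : r ≠ 2) :
    orderOf (q : ZMod r) = 2 ↔ r ∣ q + 1 :=
  (Cfsg.Agent.Helper55.UNdW.dvd_succ_iff_orderOf hr hr2).symm

/-- if `r ∣ q + 1` then `b = 1`, the case is self-dual and `c = 1` -/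
theorem two_case {q r : ℕ} (hr : r.Prime) (hr2 : r ≠ 2) (h : r ∣ q + 1) :
    orderOf ((q ^ 2 : ℕ) : ZMod r) = 1 ∧ SD q r := by
  have h2 : orderOf (q : ZMod r) = 2 := (orderOf_eq_two_iff hr hr2).2 h
  constructor
  · have := b_eq (q := q) (r := r) (i := 2) (b := 1) h2.symm (by norm_num)
    exact this.symm
  · unfold SD
    rw [h2]

end Cfsg.Agent.Helper94.Uh
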