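import Mathlib
import Cfsg.Agent.Helper13.UFramesCount
import Cfsg.Agent.Helper94.TiF

set_option autoImplicit false
set_option linter.unusedSectionVars false
set_option linter.unusedVariables false

/-!
# (CNT) the number of totally isotropic `m`-spaces of the hermitian space `F^n`, `|F| = q²`

Port of `Helper94.Ti.tiSpanMap / tiFiberEquiv / card_ti_mul` (Cfsg/Agent/Helper94/TiF.lean, lines
150-228) and of `Ti.exists_dvd_of_dvd_card_ti / char_not_dvd_card_ti` (TiG.lean) on top of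
`Helper13.card_UFrames` (number of totally isotropic `m`-frames `= ∏_{i<m} uExt q n i`,
`uExt q n i = q^(2i) * uFac q (n-2i-1) * uFac q (n-2i-2)`, `uFac q j = q^(j+1) - (-1)^(j+1)`):
the span map from frames to t.i. `m`-spaces has fibres of size `∏_{k<m} ((q²)^m - (q²)^k)`.
The powers of `q` cancel: `∏_{k<m} q^(2k) = ∏_{k<m} (q²)^k`.
-/

namespace Cfsg.Agent.Helper94.Uh

open Module

universe u

variable {F : Type u} [Field F] [Fintype F] {q n : ℕ}

/-- (CNT aux) the span map on totally isotropic frames -/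
noncomputable def CNT_spanMap (hF : Fintype.card F = q ^ 2) (m : ℕ) :
    Cfsg.Agent.Helper13.UFrames F n q m →
      {W : Submodule F (Fin n → F) // Module.finrank F ↥W = m ∧
        (∀ u ∈ W, ∀ v ∈ W, Cfsg.hermForm n F q u v = 0)} :=
  fun s => ⟨Submodule.span F (Set.range s.1), by
    rw [finrank_span_eq_card s.2.1]; simp,
    Cfsg.Agent.Helper13.hermForm_span_eq_zero hF s.1 s.2.2⟩

/-- (CNT aux) the fibre of the span map over `W` is the set of bases of `W` -/
noncomputable def CNT_fiberEquiv (hF : Fintype.card F = q ^ 2) (m : ℕ)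
    (W : {W : Submodule F (Fin n → F) // Module.finrank F ↥W = m ∧
        (∀ u ∈ W, ∀ v ∈ W, Cfsg.hermForm n F q u v = 0)}) :
    {s : Cfsg.Agent.Helper13.UFrames F n q m // CNT_spanMap hF m s = W} ≃
      {s' : Fin m → ↥W.1 // LinearIndependent F s'} where
  toFun s := ⟨fun k => ⟨s.1.1 k, by
      have h := congrArg Subtype.val s.2
      simp only [CNT_spanMap] at h
      rw [← h]
      exact Submodule.subset_span ⟨k, rfl⟩⟩, by
    have := s.1.2.1
    exact LinearIndependent.of_comp W.1.subtype (by simpa [Function.comp_def] using this)⟩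
  invFun s' := ⟨⟨fun k => (s'.1 k : Fin n → F), by
      have := s'.2.map' W.1.subtype (Submodule.ker_subtype _)
      simpa [Function.comp_def] using this, fun a b => W.2.2 _ (s'.1 a).2 _ (s'.1 b).2⟩, by
    apply Subtype.ext
    simp only [CNT_spanMap]
    have hspan : Submodule.span F (Set.range s'.1) = ⊤ := by
      apply LinearIndependent.span_eq_top_of_card_eq_finrank' s'.2
      rw [Fintype.card_fin, W.2.1]
    have : Submodule.span F (Set.range fun k => (s'.1 k : Fin n → F)) =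
        (Submodule.span F (Set.range s'.1)).map W.1.subtype := by
      rw [Submodule.map_span, ← Set.range_comp]; rfl
    rw [this, hspan, Submodule.map_top, Submodule.range_subtype]⟩
  left_inv s := by
    apply Subtype.ext; apply Subtype.ext; rfl
  right_inv s' := by
    apply Subtype.ext; funext k; rfl

theorem card_uti_mul (hF : Fintype.card F = q ^ 2) (m : ℕ) (hm : 2 * m ≤ n) :
    Nat.card {W : Submodule F (Fin n → F) // Module.finrank F ↥W = m ∧
        (∀ u ∈ W, ∀ v ∈ W, Cfsg.hermForm n F q u v = 0)} *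
      ∏ k : Fin m, ((q ^ 2) ^ m - (q ^ 2) ^ k.val) =
    ∏ i ∈ Finset.range m, Cfsg.Agent.Helper13.uExt q n i := by
  classical
  have hfinV : Finite (Fin n → F) := inferInstance
  have hfinW : Finite {W : Submodule F (Fin n → F) // Module.finrank F ↥W = m ∧
        (∀ u ∈ W, ∀ v ∈ W, Cfsg.hermForm n F q u v = 0)} := inferInstance
  have hftW : Fintype {W : Submodule F (Fin n → F) // Module.finrank F ↥W = m ∧
        (∀ u ∈ W, ∀ v ∈ W, Cfsg.hermForm n F q u v = 0)} := Fintype.ofFinite _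
  rw [← Cfsg.Agent.Helper13.card_UFrames hF m hm,
    Nat.card_congr (Equiv.sigmaFiberEquiv (CNT_spanMap (n := n) hF m)).symm, Nat.card_sigma]
  have hfib : ∀ W : {W : Submodule F (Fin n → F) // Module.finrank F ↥W = m ∧
        (∀ u ∈ W, ∀ v ∈ W, Cfsg.hermForm n F q u v = 0)},
      Nat.card {s : Cfsg.Agent.Helper13.UFrames F n q m // CNT_spanMap hF m s = W} =
        ∏ k : Fin m, ((q ^ 2) ^ m - (q ^ 2) ^ k.val) := by
    intro W
    rw [Nat.card_congr (CNT_fiberEquiv hF m W),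
      card_linearIndependent (K := F) (V := ↥W.1) (by rw [W.2.1]), W.2.1, hF]
  rw [Finset.sum_congr rfl (fun W _ => hfib W), Finset.sum_const, Finset.card_univ,
    Nat.card_eq_fintype_card, smul_eq_mul]


/-- (CNT aux) the reduced counting identity: the powers of `q` cancel -/
theorem CNT_card_uti_mul' (hF : Fintype.card F = q ^ 2) (m : ℕ) (hm : 2 * m ≤ n) :
    Nat.card {W : Submodule F (Fin n → F) // Module.finrank F ↥W = m ∧
        (∀ u ∈ W, ∀ v ∈ W, Cfsg.hermForm n F q u v = 0)} *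
      ∏ k : Fin m, ((q ^ 2) ^ (m - k.val) - 1) =
    ∏ i ∈ Finset.range m, (Cfsg.Agent.Helper13.uFac q (n - 2 * i - 1) *
      Cfsg.Agent.Helper13.uFac q (n - 2 * i - 2)) := by
  have hq : 0 < q := by
    have := Cfsg.Agent.Helper13.two_le_of_card_eq_sq hF
    omega
  have h := card_uti_mul (n := n) hF m hm
  rw [Cfsg.Agent.Helper59.SubCount.prod_sub_eq _ _ m le_rfl] at h
  have hR : ∏ i ∈ Finset.range m, Cfsg.Agent.Helper13.uExt q n i =
      (∏ i ∈ Finset.range m, q ^ (2 * i)) *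
        ∏ i ∈ Finset.range m, (Cfsg.Agent.Helper13.uFac q (n - 2 * i - 1) *
          Cfsg.Agent.Helper13.uFac q (n - 2 * i - 2)) := by
    rw [← Finset.prod_mul_distrib]
    apply Finset.prod_congr rfl
    intro i _
    unfold Cfsg.Agent.Helper13.uExt
    ring
  have hL : ∏ k : Fin m, (q ^ 2) ^ k.val = ∏ i ∈ Finset.range m, q ^ (2 * i) := by
    rw [Fin.prod_univ_eq_prod_range (fun i => (q ^ 2) ^ i) m]
    apply Finset.prod_congr rfl
    intro i _
    rw [pow_mul]
  rw [hR, hL] at h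
  have hpos : 0 < ∏ i ∈ Finset.range m, q ^ (2 * i) :=
    Finset.prod_pos (fun i _ => pow_pos hq _)
  apply Nat.eq_of_mul_eq_mul_left hpos
  rw [← h]
  ring

/-- a prime `r ≠ p` dividing the number of t.i. `m`-spaces divides some `q^e - (-1)^e` with
`n - 2m < e ≤ n` -/
theorem exists_dvd_of_dvd_card_uti (hF : Fintype.card F = q ^ 2) (m : ℕ) (hm : 2 * m ≤ n)
    (r : ℕ) (hr : r.Prime) (hrq : ¬ r ∣ q)
    (hdvd : r ∣ Nat.card {W : Submodule F (Fin n → F) // Module.finrank F ↥W = m ∧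
        (∀ u ∈ W, ∀ v ∈ W, Cfsg.hermForm n F q u v = 0)}) :
    ∃ e : ℕ, n < e + 2 * m ∧ e ≤ n ∧ (r : ℤ) ∣ (q : ℤ) ^ e - (-1) ^ e := by
  have hq : 1 ≤ q := by
    have := Cfsg.Agent.Helper13.two_le_of_card_eq_sq hF
    omega
  have h := CNT_card_uti_mul' (n := n) hF m hm
  have h1 : r ∣ ∏ i ∈ Finset.range m, (Cfsg.Agent.Helper13.uFac q (n - 2 * i - 1) *
      Cfsg.Agent.Helper13.uFac q (n - 2 * i - 2)) := by
    rw [← h]; exact Dvd.dvd.mul_right hdvd _
  obtain ⟨i, hi, hri⟩ := (hr.prime.dvd_finsetProd_iff _).mp h1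
  rw [Finset.mem_range] at hi
  have key : ∀ j : ℕ, r ∣ Cfsg.Agent.Helper13.uFac q j →
      (r : ℤ) ∣ (q : ℤ) ^ (j + 1) - (-1) ^ (j + 1) := by
    intro j hj
    have hj' : (r : ℤ) ∣ ((Cfsg.Agent.Helper13.uFac q j : ℕ) : ℤ) := by exact_mod_cast hj
    rw [Cfsg.Agent.Helper13.uFac_cast q j hq] at hj'
    have e6 : (-1 : ℤ) ^ (j + 1) = -((-1 : ℤ) ^ j) := by rw [pow_succ]; ring
    rw [e6, sub_neg_eq_add]
    exact hj'
  rcases (Nat.Prime.dvd_mul hr).mp hri with h2 | h2
  · refine ⟨n - 2 * i - 1 + 1, by omega, by omega, key _ h2⟩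
  · refine ⟨n - 2 * i - 2 + 1, by omega, by omega, key _ h2⟩

/-- the characteristic does not divide the number of t.i. `m`-spaces -/
theorem char_not_dvd_card_uti (hF : Fintype.card F = q ^ 2) (m : ℕ) (hm : 2 * m ≤ n)
    (p : ℕ) [Fact p.Prime] [CharP F p] :
    ¬ p ∣ Nat.card {W : Submodule F (Fin n → F) // Module.finrank F ↥W = m ∧
        (∀ u ∈ W, ∀ v ∈ W, Cfsg.hermForm n F q u v = 0)} := by
  intro hdvd
  have hp : p.Prime := Fact.out
  have hq : 1 ≤ q := by
    have := Cfsg.Agent.Helper13.two_le_of_card_eq_sq hF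
    omega
  have hpq : p ∣ q := by
    have h1 : p ∣ Fintype.card F := by
      obtain ⟨e, -, he⟩ := FiniteField.card F p
      rw [he]; exact dvd_pow_self p e.pos.ne'
    rw [hF] at h1
    exact hp.dvd_of_dvd_pow h1
  have h := CNT_card_uti_mul' (n := n) hF m hm
  have h1 : p ∣ ∏ i ∈ Finset.range m, (Cfsg.Agent.Helper13.uFac q (n - 2 * i - 1) *
      Cfsg.Agent.Helper13.uFac q (n - 2 * i - 2)) := by
    rw [← h]; exact Dvd.dvd.mul_right hdvd _
  obtain ⟨i, hi, hri⟩ := (hp.prime.dvd_finsetProd_iff _).mp h1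
  have key : ∀ j : ℕ, ¬ p ∣ Cfsg.Agent.Helper13.uFac q j := by
    intro j hj
    have hj' : (p : ℤ) ∣ ((Cfsg.Agent.Helper13.uFac q j : ℕ) : ℤ) := by exact_mod_cast hj
    rw [Cfsg.Agent.Helper13.uFac_cast q j hq] at hj'
    have hpq' : (p : ℤ) ∣ (q : ℤ) ^ (j + 1) :=
      Dvd.dvd.trans (by exact_mod_cast hpq) (dvd_pow_self _ (Nat.succ_ne_zero j))
    have h2 : (p : ℤ) ∣ (-1) ^ j := (Int.dvd_add_right hpq').mp hj'
    have h3 : IsUnit ((-1 : ℤ) ^ j) := (isUnit_neg_one (α := ℤ)).pow j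
    have h4 : IsUnit (p : ℤ) := isUnit_of_dvd_unit h2 h3
    have h5 : p = 1 := by
      have := Int.isUnit_iff_natAbs_eq.mp h4
      simpa using this
    exact hp.one_lt.ne' h5
  rcases (Nat.Prime.dvd_mul hp).mp hri with h2 | h2
  · exact key _ h2
  · exact key _ h2

end Cfsg.Agent.Helper94.Uh
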