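import Mathlib
import Cfsg.Agent.Helper94.Uh.Defs
import Cfsg.Agent.Helper99.SemiCompl

set_option autoImplicit false
set_option linter.unusedSectionVars false
set_option linter.unusedVariables false

/-!
# (COMPL) splitting off a totally isotropic invariant subspace; stacking

Port of `Helper94.Ti.IsoSetup.exists_compl_ti` and `IsoSetup.stack`
(Cfsg/Agent/Helper94/TiB.lean, lines 106-183) to the hermitian setting
(`UIso`, API: `Uh.Basic`: `Nd`, `Orth`, `orth`, `finrank_inf_orth_of_le`, `Nd.inf_orth`, ...;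
`Uh.Defs`: `UIso.inv_orth`).
-/

namespace Cfsg.Agent.Helper94.Uh

open Module Polynomial
open Cfsg.Agent.Helper59.InvChain Cfsg.Agent.Helper59.Elusive
open Cfsg.Agent.Helper99.RDecomp

universe u v

variable {F : Type u} [Field F] [Fintype F] {V : Type v} [AddCommGroup V] [Module F V]
  [FiniteDimensional F V] {σ : F →+* F} {B : V →ₛₗ[σ] V →ₗ[F] F} {y : Module.End F V} {n : ℕ}

/-- splitting off a totally isotropic invariant subspace: a nondegenerate invariant
complement of `U` in `U^⊥ ∩ W`. -/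
theorem UIso.exists_compl_ti (h : UIso B y n) {W U : Submodule F V} (hWinv : Inv y W)
    (hW : Nd B W) (hUW : U ≤ W) (hUinv : Inv y U) (hU : Orth B U U) :
    ∃ C : Submodule F V, C ≤ W ∧ Inv y C ∧ Nd B C ∧ Orth B U C ∧ Disjoint U C ∧
      finrank F ↥C + 2 * finrank F ↥U = finrank F ↥W := by
  have hS := h.symm
  set M := W ⊓ orth B U with hM
  have hMinv : Inv y M := inv_inf hWinv (h.inv_orth hUinv)
  have hUM : U ≤ M := le_inf hUW (orth_iff_le.mp hU)
  have hMW : M ≤ W := inf_le_left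
  have hMdim : finrank F ↥M + finrank F ↥U = finrank F ↥W :=
    finrank_inf_orth_of_le hS h.nondeg hUW hW
  obtain ⟨C'', hC''c, hC''inv⟩ := Cfsg.Agent.Helper99.SemiCompl.exists_invariant_compl n
    h.ne_zero y 1 one_ne_zero (by rw [h.pow_eq, one_smul]) U hUinv
  obtain ⟨hdUC, hsUC⟩ := exists_rel_compl hUM C'' hC''c
  set C := C'' ⊓ M with hC
  have hCorth : Orth B U C := orth_iff_le.mpr (inf_le_right.trans inf_le_right)
  have hCdim : finrank F ↥U + finrank F ↥C = finrank F ↥M := by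
    rw [← finrank_sup_of_disjoint hdUC, hsUC]
  refine ⟨C, inf_le_right.trans hMW, inv_inf hC''inv hMinv, ?_, hCorth, hdUC, by omega⟩
  -- nondegeneracy
  have hUeq : W ⊓ orth B M = U := by
    symm
    apply Submodule.eq_of_le_of_finrank_eq
    · refine le_inf hUW ?_
      intro u hu
      rw [mem_orth]
      intro m hm
      have hm' : m ∈ orth B U := (Submodule.mem_inf.mp hm).2
      rw [mem_orth] at hm'
      exact symm_zero hS (hm' u hu)
    · have := finrank_inf_orth_of_le hS h.nondeg hMW hW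
      omega
  rw [nd_iff]
  intro x hx hx'
  have hxW : x ∈ W := (inf_le_right.trans hMW) hx
  have hxM : x ∈ orth B M := by
    rw [mem_orth]
    intro m hm
    rw [← hsUC] at hm
    obtain ⟨a, ha, c, hc, rfl⟩ := Submodule.mem_sup.mp hm
    rw [map_add, LinearMap.add_apply, hx' c hc, add_zero]
    exact hCorth a ha x hx
  have hxU : x ∈ U := by
    rw [← hUeq]; exact ⟨hxW, hxM⟩
  have : x ∈ U ⊓ C := ⟨hxU, hx⟩
  rw [hdUC.eq_bot] at this
  exact (Submodule.mem_bot F).mp this

/-- stacking totally isotropic invariant pieces -/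
theorem UIso.stack (h : UIso B y n) (S : Submodule F V) (i thr : ℕ)
    (hex : ∀ W : Submodule F V, Inv y W → Nd B W → W ≤ S → thr ≤ finrank F ↥W →
      ∃ U₀ : Submodule F V, U₀ ≤ W ∧ Inv y U₀ ∧ Orth B U₀ U₀ ∧ finrank F ↥U₀ = i) :
    ∀ b : ℕ, ∀ W : Submodule F V, Inv y W → Nd B W → W ≤ S →
      thr + 2 * (b * i) ≤ finrank F ↥W →
      ∃ U : Submodule F V, U ≤ W ∧ Inv y U ∧ Orth B U U ∧ finrank F ↥U = (b + 1) * i := by
  intro b
  induction b with
  | zero =>
    intro W hWinv hW hWS hdim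
    obtain ⟨U₀, h1, h2, h3, h4⟩ := hex W hWinv hW hWS (by omega)
    exact ⟨U₀, h1, h2, h3, by rw [h4]; ring⟩
  | succ b ih =>
    intro W hWinv hW hWS hdim
    obtain ⟨U₀, hU₀W, hU₀inv, hU₀ti, hU₀dim⟩ := hex W hWinv hW hWS (by omega)
    obtain ⟨C, hCW, hCinv, hCnd, hUC, hdis, hCdim⟩ :=
      h.exists_compl_ti hWinv hW hU₀W hU₀inv hU₀ti
    have h1 : (b + 1) * i = b * i + i := by ring
    obtain ⟨U', hU'C, hU'inv, hU'ti, hU'dim⟩ := ih C hCinv hCnd (hCW.trans hWS) (by omega)
    have hUU' : Orth B U₀ U' := hUC.mono le_rfl hU'C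
    refine ⟨U₀ ⊔ U', sup_le hU₀W (hU'C.trans hCW), inv_sup hU₀inv hU'inv, ?_, ?_⟩
    · exact Orth.sup_left (Orth.sup_right hU₀ti hUU')
        (Orth.sup_right (hUU'.symm h.symm) hU'ti)
    · rw [finrank_sup_of_disjoint (hdis.mono_right hU'C), hU₀dim, hU'dim]
      ring

end Cfsg.Agent.Helper94.Uh
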