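import Mathlib
import Cfsg.Agent.Helper94.TiA

set_option autoImplicit false
set_option linter.unusedSectionVars false
set_option linter.unusedVariables false
set_option linter.style.haveILetI false

/-!
# (CW) Chevalley–Warning for sesquilinear forms over a finite field

`N` forms `β k : V →ₛₗ[σ] V →ₗ[F] F` (any ring endomorphism `σ` of the finite field `F`) have a
common nonzero isotropic vector in every subspace of dimension `> 2 N`.

Route: `σ` fixes the prime field `K = ZMod p`; each `β k` is `K`-bilinear with values in `F`;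
compose with the `d = [F : K]` coordinate functionals of a `K`-basis of `F` to get `N d`
`K`-bilinear forms on the `K`-space `Fin (finrank F W) → F` (coordinates w.r.t. an
`F`-basis of `W`), and apply `Ti.exists_ne_zero_isotropic`
(`2 N d < d · finrank F W`).  No `Module K V` instance is needed: build the `K`-bilinear forms on
the coordinate space with `LinearMap.mk₂`.

(proved by helper97, board #8025 (CW))
-/

namespace Cfsg.Agent.Helper94.Uh

open Module

theorem exists_ne_zero_isotropic_semi {F : Type*} [Field F] [Fintype F] {V : Type*}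
    [AddCommGroup V] [Module F V] [FiniteDimensional F V] {σ : F →+* F}
    (W : Submodule F V) (N : ℕ) (β : Fin N → V →ₛₗ[σ] V →ₗ[F] F)
    (h : 2 * N < finrank F ↥W) : ∃ u ∈ W, u ≠ 0 ∧ ∀ k, β k u u = 0 := by
  classical
  obtain ⟨p, hp⟩ := CharP.exists F
  haveI := hp
  haveI hpp : Fact p.Prime := ⟨CharP.char_is_prime F p⟩
  letI : Algebra (ZMod p) F := ZMod.algebra F p
  set n := finrank F ↥W with hn
  let b : Basis (Fin n) F ↥W := Module.finBasis F ↥W
  set d := finrank (ZMod p) F with hd
  have hd0 : 0 < d := Module.finrank_pos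
  let bK : Basis (Fin d) (ZMod p) F := Module.finBasis (ZMod p) F
  -- `σ` fixes the prime field
  have hσ : ∀ c : ZMod p, σ (algebraMap (ZMod p) F c) = algebraMap (ZMod p) F c := by
    intro c
    have : σ.comp (algebraMap (ZMod p) F) = algebraMap (ZMod p) F := Subsingleton.elim _ _
    exact RingHom.congr_fun this c
  -- the coordinate map
  let φ : (Fin n → F) → V := fun x => ∑ j, x j • (b j : V)
  have hφadd : ∀ x y, φ (x + y) = φ x + φ y := by
    intro x y
    simp only [φ, Pi.add_apply, add_smul, Finset.sum_add_distrib]
  have hφsmul : ∀ (c : ZMod p) x, φ (c • x) = (algebraMap (ZMod p) F c) • φ x := by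
    intro c x
    simp only [φ, Pi.smul_apply, Finset.smul_sum]
    apply Finset.sum_congr rfl
    intro j _
    rw [Algebra.smul_def, mul_smul]
  let γ : Fin N → Fin d → LinearMap.BilinForm (ZMod p) (Fin n → F) := fun k t =>
    LinearMap.mk₂ (ZMod p) (fun x y => bK.coord t (β k (φ x) (φ y)))
      (by
        intro x x' y
        rw [hφadd, map_add, LinearMap.add_apply, map_add])
      (by
        intro c x y
        rw [hφsmul, LinearMap.map_smulₛₗ, LinearMap.smul_apply, hσ, smul_eq_mul,
          ← Algebra.smul_def, map_smul])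
      (by
        intro x y y'
        rw [hφadd, map_add, map_add])
      (by
        intro c x y
        rw [hφsmul, map_smul, smul_eq_mul, ← Algebra.smul_def, map_smul])
  have hγ : ∀ k t x y, γ k t x y = bK.coord t (β k (φ x) (φ y)) := fun k t x y => rfl
  let γ' : Fin (N * d) → LinearMap.BilinForm (ZMod p) (Fin n → F) := fun i =>
    γ (finProdFinEquiv.symm i).1 (finProdFinEquiv.symm i).2
  have hfr : finrank (ZMod p) (Fin n → F) = n * d := by
    rw [Module.finrank_pi_fintype]
    simp [hd]
  have hlt : 2 * (N * d) < finrank (ZMod p) ↥(⊤ : Submodule (ZMod p) (Fin n → F)) := by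
    rw [finrank_top, hfr]
    calc 2 * (N * d) = (2 * N) * d := by ring
      _ < n * d := Nat.mul_lt_mul_of_pos_right h hd0
  obtain ⟨x, -, hx0, hx⟩ := Cfsg.Agent.Helper94.Ti.exists_ne_zero_isotropic
    (⊤ : Submodule (ZMod p) (Fin n → F)) (N * d) γ' hlt
  have hφx : φ x = ((b.equivFun.symm x : ↥W) : V) := by
    rw [Basis.equivFun_symm_apply]
    simp [φ]
  refine ⟨φ x, ?_, ?_, ?_⟩
  · rw [hφx]
    exact (b.equivFun.symm x).2
  · intro h0
    apply hx0
    rw [hφx] at h0
    have h1 : b.equivFun.symm x = 0 := Subtype.ext h0
    have := congrArg b.equivFun h1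
    rwa [LinearEquiv.apply_symm_apply, map_zero] at this
  · intro k
    apply bK.ext_elem_iff.2
    intro t
    have h1 := hx (finProdFinEquiv (k, t))
    simp only [γ', Equiv.symm_apply_apply] at h1
    rw [hγ] at h1
    rw [map_zero, Finsupp.zero_apply]
    exact h1

end Cfsg.Agent.Helper94.Uh
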