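import Mathlib
import Cfsg.Agent.Helper94.Uh.Defs

set_option autoImplicit false
set_option linter.unusedSectionVars false
set_option linter.unusedVariables false

/-!
# (FIXCYC) fixed part ⊥ cyclotomic part; both are nondegenerate

Port of `Helper99.SpStruct.SpSetup.orth_fix_cyc / nd_inf_fix / nd_inf_cyc`
(Cfsg/Agent/Helper99/SpStructB.lean) from alternating bilinear forms to the hermitian
`B : V →ₛₗ[σ] V →ₗ[F] F` (API: `Uh.Basic`, `Uh.Defs`).  `r = 2` is allowed.
-/

namespace Cfsg.Agent.Helper94.Uh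

open Module Polynomial
open Cfsg.Agent.Helper59.InvChain Cfsg.Agent.Helper59.Elusive
open Cfsg.Agent.Helper99.RDecomp

universe u v

variable {F : Type u} [Field F] [Fintype F] {V : Type v} [AddCommGroup V] [Module F V]
  [FiniteDimensional F V] {σ : F →+* F} {B : V →ₛₗ[σ] V →ₗ[F] F} {y : Module.End F V} {q r : ℕ}

/-- the fixed part is orthogonal to the cyclotomic part -/
theorem HSetup.orth_fix_cyc (h : HSetup B q r y) : Orth B (fixSp y) (cycSp r y) := by
  intro u hu v hv
  have hu' : ∀ k : ℕ, (y ^ k) u = u := by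
    intro k
    induction k with
    | zero => simp
    | succ k ih => rw [pow_succ, Module.End.mul_apply, mem_fixSp.mp hu, ih]
  have h1 : ∀ k : ℕ, B u ((y ^ k) v) = B u v := by
    intro k
    conv_lhs => rw [← hu' k]
    exact h.isom_pow k u v
  have h2 : avg r y v = 0 := by
    rw [← Cfsg.Agent.Helper99.SpStruct.aeval_cyclotomic_eq_avg h.setup.prime]
    exact hv
  have h3 : B u (avg r y v) = (r : F) * B u v := by
    rw [avg_apply, map_sum, Finset.sum_congr rfl (fun k _ => h1 k), Finset.sum_const,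
      Finset.card_range, nsmul_eq_mul]
  rw [h2, map_zero] at h3
  rcases mul_eq_zero.mp h3.symm with h4 | h4
  · exact absurd h4 h.setup.ne_zero
  · exact h4

theorem HSetup.nd_inf_fix (h : HSetup B q r y) {W : Submodule F V} (hWinv : Inv y W)
    (hW : Nd B W) : Nd B (W ⊓ fixSp y) := by
  rw [nd_iff]
  intro u hu hu'
  apply nd_iff.mp hW u hu.1
  intro w hw
  rw [← h.setup.sup_parts W hWinv] at hw
  obtain ⟨a, ha, b, hb, rfl⟩ := Submodule.mem_sup.mp hw
  rw [map_add, LinearMap.add_apply, hu' a ha, zero_add]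
  exact (h.orth_fix_cyc.symm h.symm) b hb.2 u hu.2

theorem HSetup.nd_inf_cyc (h : HSetup B q r y) {W : Submodule F V} (hWinv : Inv y W)
    (hW : Nd B W) : Nd B (W ⊓ cycSp r y) := by
  rw [nd_iff]
  intro u hu hu'
  apply nd_iff.mp hW u hu.1
  intro w hw
  rw [← h.setup.sup_parts W hWinv] at hw
  obtain ⟨a, ha, b, hb, rfl⟩ := Submodule.mem_sup.mp hw
  rw [map_add, LinearMap.add_apply, hu' b hb, add_zero]
  exact h.orth_fix_cyc a ha.2 u hu.2

end Cfsg.Agent.Helper94.Uh
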