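import Mathlib
import Cfsg.Agent.Helper94.Uh.Defs

set_option autoImplicit false
set_option linter.unusedSectionVars false
set_option linter.unusedVariables false

/-!
# (IRR) irreducible invariant subspaces of the cyclotomic part (form-free)

`exists_irr`: port of `Helper94.Ti.exists_irr` (Cfsg/Agent/Helper94/TiC.lean; via
`Helper59.InvChain.chain_exists`).
`exists_ker_of_irr`: an invariant subspace of `cycSp` of the minimal dimension `b` is killed by a
monic irreducible factor of `Φ_r` (`Helper99.SpStruct.exists_irreducible_ker_ne_bot` gives an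
irreducible `P ∣ Φ_r` with `U₀ ⊓ ker P(y) ≠ ⊥`; this invariant subspace has dimension divisible by
`b` (`h.setup.dvd`), hence equals `U₀`; normalise `P`).
-/

namespace Cfsg.Agent.Helper94.Uh

open Module Polynomial
open Cfsg.Agent.Helper59.InvChain Cfsg.Agent.Helper59.Elusive
open Cfsg.Agent.Helper99.RDecomp

universe u v

variable {F : Type u} [Field F] [Fintype F] {V : Type v} [AddCommGroup V] [Module F V]
  [FiniteDimensional F V] {σ : F →+* F} {B : V →ₛₗ[σ] V →ₗ[F] F} {y : Module.End F V} {q r : ℕ}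

theorem exists_irr (h : HSetup B q r y) {W : Submodule F V} (hWinv : Inv y W)
    (hWc : W ≤ cycSp r y) (hne : W ≠ ⊥) :
    ∃ U₀ : Submodule F V, U₀ ≤ W ∧ Inv y U₀ ∧
      finrank F ↥U₀ = orderOf ((Fintype.card F : ℕ) : ZMod r) := by
  have hipos := h.setup.c_pos
  obtain ⟨m, hm⟩ := h.setup.dvd W hWinv hWc
  have hWpos : 0 < finrank F ↥W := by
    rw [Nat.pos_iff_ne_zero]
    intro h0
    exact hne (Submodule.finrank_eq_zero.mp h0)
  have hile : 1 * orderOf ((Fintype.card F : ℕ) : ZMod r) ≤ finrank F ↥W := by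
    rw [one_mul]
    exact Nat.le_of_dvd hWpos ⟨m, hm⟩
  obtain ⟨U₀, h1, h2, h3⟩ := chain_exists y (cyclotomic r F) _ h.hp W hWinv
    (fun u hu => hWc hu) 1 hile
  exact ⟨U₀, h1, h2, by rw [h3, one_mul]⟩

theorem exists_ker_of_irr (h : HSetup B q r y) {U₀ : Submodule F V} (hU₀inv : Inv y U₀)
    (hU₀c : U₀ ≤ cycSp r y)
    (hU₀dim : finrank F ↥U₀ = orderOf ((Fintype.card F : ℕ) : ZMod r)) :
    ∃ P : F[X], P.Monic ∧ Irreducible P ∧ P ∣ cyclotomic r F ∧
      U₀ ≤ LinearMap.ker (aeval y P) := by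
  classical
  have hipos : 0 < orderOf ((Fintype.card F : ℕ) : ZMod r) := h.setup.c_pos
  have hU₀ne : U₀ ≠ ⊥ := by
    intro h0
    rw [h0, finrank_bot] at hU₀dim
    omega
  obtain ⟨P, hPirr, hPdvd, hPne⟩ :=
    Cfsg.Agent.Helper99.SpStruct.exists_irreducible_ker_ne_bot y _ (cyclotomic r F) rfl
      (cyclotomic_ne_zero r F) U₀ hU₀inv hU₀ne (fun w hw => hU₀c hw)
  -- U₀ ≤ ker P(y)
  have hRinv : Inv y (U₀ ⊓ LinearMap.ker (aeval y P)) := inv_inf hU₀inv (inv_ker_aeval y P)
  obtain ⟨e, he⟩ := h.setup.dvd _ hRinv (inf_le_left.trans hU₀c)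
  have hRle : finrank F ↥(U₀ ⊓ LinearMap.ker (aeval y P)) ≤
      orderOf ((Fintype.card F : ℕ) : ZMod r) := by
    rw [← hU₀dim]; exact Submodule.finrank_mono inf_le_left
  have hRpos : 0 < finrank F ↥(U₀ ⊓ LinearMap.ker (aeval y P)) := by
    rw [Nat.pos_iff_ne_zero]
    intro h0
    exact hPne (Submodule.finrank_eq_zero.mp h0)
  have hReq : U₀ ⊓ LinearMap.ker (aeval y P) = U₀ := by
    apply Submodule.eq_of_le_of_finrank_eq inf_le_left
    rcases Nat.eq_zero_or_pos e with h0 | hpos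
    · rw [h0, mul_zero] at he; omega
    · have : orderOf ((Fintype.card F : ℕ) : ZMod r) ≤
          orderOf ((Fintype.card F : ℕ) : ZMod r) * e := Nat.le_mul_of_pos_right _ hpos
      omega
  have hU₀K : U₀ ≤ LinearMap.ker (aeval y P) := by
    rw [← hReq]; exact inf_le_right
  -- normalise
  have hP0 : P ≠ 0 := hPirr.ne_zero
  refine ⟨normalize P, Polynomial.monic_normalize hP0,
    (normalize_associated P).symm.irreducible hPirr, normalize_dvd_iff.mpr hPdvd, ?_⟩
  obtain ⟨R, hR⟩ : P ∣ normalize P := (normalize_associated P).symm.dvd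
  intro w hw
  have hw0 : (aeval y P) w = 0 := LinearMap.mem_ker.mp (hU₀K hw)
  rw [LinearMap.mem_ker, hR, mul_comm, map_mul, Module.End.mul_apply, hw0, map_zero]

end Cfsg.Agent.Helper94.Uh
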