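import Mathlib
import Cfsg.Agent.Helper94.Uh.P_ADJ
import Cfsg.Agent.Helper43.GUPrimeD

set_option autoImplicit false
set_option linter.unusedSectionVars false
set_option linter.unusedVariables false

/-!
# (NSD) the non-self-dual case: `ker P(y)` is totally isotropic

If `ord_r(q) ≢ 2 (mod 4)` and `P` is a monic irreducible factor of `Φ_r` over `F` (`|F| = q²`),
then `ker P(y) ⊥ ker P(y)`.

Route: the adjoint of `P(y)` is `T = (P.map σ)(y⁻¹)` (`UIso.adjoint_aeval`), and
`(utilde σ P)(y) = c • y ^ b * T` (`Polynomial.eval₂_reverse_mul_pow`, `utilde = star ∘ map`,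
`star f = C (f.coeff 0)⁻¹ * f.reverse`).  `utilde σ P` is monic irreducible
(`Helper43.GUPrime.utilde_irreducible`) and `≠ P`
(`Helper43.GUPrime.utilde_ne_of_mod_four`: needs `P ∣ X ^ r - 1`, `P ≠ X - 1`,
`P.natDegree = orderOf ((q ^ 2 : ℕ) : ZMod r)` from `h.hp`), hence coprime to `P`, so
`utilde σ P (y)` is invertible on the invariant subspace `ker P(y)`: every `v ∈ ker P(y)` is
`T w` with `w ∈ ker P(y)`, and `B u (T w) = σ (B (T w) u) = ... = σ (B w (P(y) u)) = 0`.
-/

namespace Cfsg.Agent.Helper94.Uh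

open Module Polynomial
open Cfsg.Agent.Helper59.InvChain Cfsg.Agent.Helper59.Elusive
open Cfsg.Agent.Helper99.RDecomp

universe u v

variable {F : Type u} [Field F] [Fintype F] {V : Type v} [AddCommGroup V] [Module F V]
  [FiniteDimensional F V] {σ : F →+* F} {B : V →ₛₗ[σ] V →ₗ[F] F} {y : Module.End F V} {q r : ℕ}

/-- evaluation of a reflected polynomial at the inverse: if `z * y = 1` (and `z`, `y` commute)
then `(reflect N f)(z) * y ^ N = f(y)` -/
private theorem NSD_aeval_reflect_mul_pow {y z : Module.End F V} (hzy : z * y = 1)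
    (hc : Commute z y) (N : ℕ) (f : F[X]) (hf : f.natDegree ≤ N) :
    aeval z (reflect N f) * y ^ N = aeval y f := by
  refine induction_with_natDegree_le
    (fun f => aeval z (reflect N f) * y ^ N = aeval y f) N ?_ ?_ ?_ f hf
  · simp
  · intro n a _ hnN
    rw [reflect_C_mul_X_pow, revAt_le hnN, map_mul, map_mul, aeval_C, aeval_C, map_pow, map_pow,
      aeval_X, aeval_X, mul_assoc]
    congr 1
    have h1 : y ^ N = y ^ (N - n) * y ^ n := by rw [← pow_add, Nat.sub_add_cancel hnN]
    rw [h1, ← mul_assoc, ← hc.mul_pow, hzy, one_pow, one_mul]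
  · intro f g _ _ hf hg
    rw [reflect_add, map_add, add_mul, hf, hg, map_add]

theorem HSetup.orth_ker_self_nsd {p : ℕ} [Fact p.Prime] [CharP F p] (h : HSetup B q r y)
    (hr2 : r ≠ 2) (hnsd : ¬ SD q r) {P : F[X]} (hPm : P.Monic) (hPi : Irreducible P)
    (hPd : P ∣ cyclotomic r F) :
    Orth B (LinearMap.ker (aeval y P)) (LinearMap.ker (aeval y P)) := by
  classical
  have hp : p.Prime := Fact.out
  have hr : r.Prime := h.prime
  have : Fact r.Prime := ⟨hr⟩
  have hrF : (r : F) ≠ 0 := h.setup.ne_zero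
  have hrp : r ≠ p := by
    intro e
    apply hrF
    rw [e]
    exact CharP.cast_eq_zero F p
  have hσσ : ∀ x, σ (σ x) = x := h.sigma_sigma
  obtain ⟨m, hq⟩ := Cfsg.Agent.Helper43.GUPrime.exists_pow_eq p h.card
  -- `P` divides `X ^ r - 1`, is not `X - 1`, and has the right degree
  have hPX : P ∣ (X ^ r - 1 : F[X]) := by
    rw [← cyclotomic_prime_mul_X_sub_one F r]
    exact Dvd.dvd.mul_right hPd _
  have hP1 : P ≠ X - 1 := by
    intro e
    have h1 : (X - C (1 : F)) ∣ cyclotomic r F := by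
      rw [map_one, ← e]
      exact hPd
    rw [dvd_iff_isRoot, IsRoot, eval_one_cyclotomic_prime] at h1
    exact hrF h1
  have hdeg : P.natDegree = orderOf (((q ^ 2 : ℕ)) : ZMod r) := by
    have := h.hp.2 P hPi hPd
    rw [h.card] at this
    exact this
  have hP0 : P.coeff 0 ≠ 0 :=
    Cfsg.Agent.Helper43.SpPrime.coeff_zero_ne_of_dvd_X_pow_sub_one hr.pos hPX
  -- the twisted reciprocal polynomial
  set Q : F[X] := Cfsg.Agent.Helper43.GUPrime.utilde σ P with hQ
  have hQne : Q ≠ P :=
    Cfsg.Agent.Helper43.GUPrime.utilde_ne_of_mod_four p hq σ h.frob hr hr2 hrp rfl hnsd P hPm hPi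
      hPX hP1 hdeg
  obtain ⟨hQm, -, -, -⟩ := Cfsg.Agent.Helper43.GUPrime.utilde_props σ hσσ P hPm hP0
  have hQi : Irreducible Q :=
    Cfsg.Agent.Helper43.GUPrime.utilde_irreducible σ hσσ P hPm hPi hP0
  have hcop : IsCoprime P Q := by
    apply (Irreducible.coprime_iff_not_dvd hPi).mpr
    intro hd
    exact hQne (eq_of_monic_of_associated hQm hPm (hPi.associated_of_dvd hQi hd).symm)
  obtain ⟨a, b, hab⟩ := hcop
  -- `y⁻¹ = y ^ (r - 1)`
  set z : Module.End F V := y ^ (r - 1) with hz
  have hzy : z * y = 1 := by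
    rw [hz, ← pow_succ, Nat.sub_add_cancel hr.pos, h.setup.pow_eq]
  have hc : Commute z y := (Commute.refl y).pow_left _
  -- `Q(y) = c • T * y ^ d`
  set g : F[X] := P.map σ with hg
  set T : Module.End F V := aeval z g with hT
  have hQy : aeval y Q = (g.coeff 0)⁻¹ • (T * y ^ g.natDegree) := by
    have h1 : Q = C (g.coeff 0)⁻¹ * g.reverse := rfl
    have h2 : aeval z (reflect g.natDegree (g.reverse)) * y ^ g.natDegree =
        aeval y g.reverse :=
      NSD_aeval_reflect_mul_pow hzy hc g.natDegree g.reverse (reverse_natDegree_le g)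
    have h3 : reflect g.natDegree g.reverse = g := by
      unfold reverse
      exact reflect_reflect
    rw [h3] at h2
    rw [h1, map_mul, aeval_C, ← h2, Algebra.algebraMap_eq_smul_one, smul_mul_assoc, one_mul]
  intro u hu w hw
  rw [LinearMap.mem_ker] at hu hw
  -- `w = Q(y) (b(y) w)`
  have hw1 : w = (aeval y Q) ((aeval y b) w) := by
    have h1 : (aeval y (a * P + b * Q)) w = w := by
      rw [hab, map_one]
      rfl
    rw [map_add, map_mul, map_mul, LinearMap.add_apply, Module.End.mul_apply, hw, map_zero,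
      zero_add, ← map_mul, mul_comm, map_mul, Module.End.mul_apply] at h1
    exact h1.symm
  rw [hQy] at hw1
  have hw2 : w = T ((g.coeff 0)⁻¹ • (y ^ g.natDegree) ((aeval y b) w)) := by
    conv_lhs => rw [hw1]
    rw [LinearMap.smul_apply, Module.End.mul_apply, map_smul]
  rw [hw2, hT, hg, hz, ← h.toIso.adjoint_aeval P u _, hu, map_zero, LinearMap.zero_apply]

end Cfsg.Agent.Helper94.Uh
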