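import Mathlib
import Cfsg.Agent.Helper94.Uh.Defs
import Cfsg.Agent.Helper94.Uh.P_CW

set_option autoImplicit false
set_option linter.unusedSectionVars false
set_option linter.unusedVariables false

/-!
# (SDBIG) a totally isotropic cyclic submodule in every invariant subspace of dimension `≥ r + 2`

Port of the first half of `Helper94.Ti.exists_ti_irr_even` (Cfsg/Agent/Helper94/TiC.lean,
lines 106-160).  `y` an isometry with `y ^ r = z • 1`, `r` odd.  Apply (CW)
`exists_ne_zero_isotropic_semi` to the `(r + 1) / 2` forms `B.compl₂ (y ^ k)`,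
`k = 0, …, (r - 1) / 2` (here `k = 0` is needed: hermitian forms are not alternating); get
`B u (y ^ k u) = 0` for those `k`; for `(r - 1) / 2 < k < r` use
`B u (y ^ k u) = B (y ^ (r - k) u) (y ^ r u) = z * σ (B u (y ^ (r - k) u))`-type identities
(isometry + symmetry), then all `k` (reduce mod `r`, `y ^ r = z • 1`), then
`B (y ^ a u) (y ^ b u) = 0` and `cycSub y u` (= `Helper99.SpStruct.cycSub`) is totally isotropic.
-/

namespace Cfsg.Agent.Helper94.Uh

open Module Polynomial
open Cfsg.Agent.Helper59.InvChain Cfsg.Agent.Helper59.Elusive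
open Cfsg.Agent.Helper99.RDecomp Cfsg.Agent.Helper99.SpStruct

universe u v

variable {F : Type u} [Field F] [Fintype F] {V : Type v} [AddCommGroup V] [Module F V]
  [FiniteDimensional F V] {σ : F →+* F} {B : V →ₛₗ[σ] V →ₗ[F] F} {y : Module.End F V}

theorem exists_ti_cyclic (hS : B.IsSymm) (hisom : ∀ u v, B (y u) (y v) = B u v) {r : ℕ}
    (hodd : Odd r) {z : F} (hz : z ≠ 0) (hy : y ^ r = z • (1 : Module.End F V))
    {W : Submodule F V} (hWinv : Inv y W) (hdim : r + 2 ≤ finrank F ↥W) :
    ∃ u ∈ W, u ≠ 0 ∧ Orth B (cycSub y u) (cycSub y u) := by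
  obtain ⟨m, hm⟩ := hodd
  obtain ⟨u, huW, hu0, hu⟩ := exists_ne_zero_isotropic_semi W (m + 1)
    (fun k : Fin (m + 1) => B.compl₂ (y ^ k.val)) (by omega)
  have hk : ∀ k : ℕ, k ≤ m → B u ((y ^ k) u) = 0 := by
    intro k hkm
    have := hu ⟨k, by omega⟩
    rwa [LinearMap.compl₂_apply] at this
  have hisom_pow : ∀ (n : ℕ) (a b : V), B ((y ^ n) a) ((y ^ n) b) = B a b := by
    intro n
    induction n with
    | zero => intro a b; simp
    | succ n ih =>
      intro a b
      rw [pow_succ, Module.End.mul_apply, Module.End.mul_apply, ih, hisom]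
  have hrpos : 0 < r := by omega
  have hred : ∀ k : ℕ, (y ^ k) u = z ^ (k / r) • (y ^ (k % r)) u := by
    intro k
    conv_lhs => rw [← Nat.div_add_mod k r, pow_add, pow_mul, hy, _root_.smul_pow, one_pow]
    rw [smul_mul_assoc, one_mul, LinearMap.smul_apply]
  have hall : ∀ k : ℕ, B u ((y ^ k) u) = 0 := by
    intro k
    rw [hred k, map_smul]
    have hlt : k % r < r := Nat.mod_lt _ hrpos
    set k' := k % r with hk'
    by_cases hle : k' ≤ m
    · rw [hk k' hle, smul_zero]
    · push Not at hle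
      have hjm : r - k' ≤ m := by omega
      have h1 : B u ((y ^ k') u) = B ((y ^ (r - k')) u) ((y ^ (r - k')) ((y ^ k') u)) :=
        (hisom_pow (r - k') _ _).symm
      rw [h1, ← Module.End.mul_apply, ← pow_add, Nat.sub_add_cancel (le_of_lt hlt), hy,
        LinearMap.smul_apply, Module.End.one_apply, map_smul,
        symm_zero hS (hk (r - k') hjm), smul_zero, smul_zero]
  have hall2 : ∀ a b : ℕ, B ((y ^ a) u) ((y ^ b) u) = 0 := by
    intro a b
    rcases le_total a b with hab | hab
    · obtain ⟨c, rfl⟩ := Nat.exists_eq_add_of_le hab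
      rw [pow_add, Module.End.mul_apply, hisom_pow]
      exact hall c
    · obtain ⟨c, rfl⟩ := Nat.exists_eq_add_of_le hab
      apply symm_zero hS
      rw [pow_add, Module.End.mul_apply, hisom_pow]
      exact hall c
  refine ⟨u, huW, hu0, ?_⟩
  intro x hx x' hx'
  obtain ⟨g, rfl⟩ := mem_cycSub.mp hx
  obtain ⟨g', rfl⟩ := mem_cycSub.mp hx'
  rw [aeval_eq_sum_range, aeval_eq_sum_range]
  simp only [LinearMap.sum_apply, LinearMap.smul_apply, map_sum, LinearMap.map_smulₛₗ, map_smul,
    hall2, smul_zero, Finset.sum_const_zero]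

end Cfsg.Agent.Helper94.Uh
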