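import Mathlib
import Cfsg.Agent.Helper94.Uh.Basic
import Cfsg.Agent.Helper37.LangF

set_option autoImplicit false
set_option linter.unusedSectionVars false
set_option linter.unusedVariables false

/-!
# (ISO) isotropic vectors and totally isotropic subspaces of hermitian spaces over finite fields

Route: `Helper37.Lang.exists_orthonormal` (orthonormal families in relatively nondegenerate
subspaces; apply it to `fun u v => B v u`, which is linear in the first variable) and
`Helper37.Lang.exists_nrm_eq` (surjectivity of the norm `c ↦ c * σ c`):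
`u_{2j} + c • u_{2j+1}` with `c * σ c = -1` are isotropic and pairwise orthogonal.
-/

namespace Cfsg.Agent.Helper94.Uh

open Module

universe u v

variable {F : Type u} [Field F] [Fintype F] {V : Type v} [AddCommGroup V] [Module F V]
  [FiniteDimensional F V] {σ : F →+* F} {B : V →ₛₗ[σ] V →ₗ[F] F}

/-- an involutive ring endomorphism as a ring automorphism -/
private noncomputable def ISO_equiv (σ : F →+* F) (hσ : ∀ a, σ (σ a) = a) : F ≃+* F :=
  RingEquiv.ofRingHom σ σ (RingHom.ext hσ) (RingHom.ext hσ)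

private theorem ISO_equiv_apply (hσ : ∀ a, σ (σ a) = a) (a : F) : ISO_equiv σ hσ a = σ a := rfl

private theorem ISO_equiv_ne_one (hσ : ∀ a, σ (σ a) = a) (hσ1 : σ ≠ RingHom.id F) :
    ISO_equiv σ hσ ≠ 1 := by
  intro h
  apply hσ1
  ext a
  have := DFunLike.congr_fun h a
  rw [ISO_equiv_apply] at this
  simpa using this

/-- surjectivity of the norm `c ↦ c * σ c` onto the fixed field -/
private theorem ISO_exists_norm (hσ : ∀ a, σ (σ a) = a) (hσ1 : σ ≠ RingHom.id F)
    (l : F) (hl : σ l = l) : ∃ c : F, c * σ c = l := by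
  by_cases hl0 : l = 0
  · exact ⟨0, by rw [hl0, zero_mul]⟩
  · obtain ⟨c, -, hc⟩ := Cfsg.Agent.Helper37.Lang.exists_nrm_eq (ISO_equiv σ hσ)
      (Cfsg.Agent.Helper37.Lang.orderOf_eq_two (σ := ISO_equiv σ hσ) (fun x => hσ x)
        (ISO_equiv_ne_one hσ hσ1)) (by norm_num) hl0 hl
    rw [Cfsg.Agent.Helper37.Lang.nrm_two] at hc
    exact ⟨c, hc⟩

/-- two orthogonal vectors, the second anisotropic: some `u₁ + c • u₂` is isotropic -/
theorem exists_isotropic_comb (hS : B.IsSymm) (hσ : ∀ a, σ (σ a) = a) (hσ1 : σ ≠ RingHom.id F)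
    {u₁ u₂ : V} (h12 : B u₁ u₂ = 0) (h2 : B u₂ u₂ ≠ 0) :
    ∃ c : F, B (u₁ + c • u₂) (u₁ + c • u₂) = 0 := by
  have h21 : B u₂ u₁ = 0 := symm_zero hS h12
  have hf1 : σ (B u₁ u₁) = B u₁ u₁ := hS.eq u₁ u₁
  have hf2 : σ (B u₂ u₂) = B u₂ u₂ := hS.eq u₂ u₂
  obtain ⟨c, hc⟩ := ISO_exists_norm hσ hσ1 (-(B u₁ u₁) / B u₂ u₂)
    (by rw [map_div₀, map_neg, hf1, hf2])
  refine ⟨c, ?_⟩
  have hc' : c * σ c * B u₂ u₂ = -(B u₁ u₁) := by rw [hc, div_mul_cancel₀ _ h2]
  rw [LinearMap.map_add₂, LinearMap.map_smulₛₗ₂, map_add, map_add, map_smul, map_smul, h12, h21,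
    smul_eq_mul, smul_eq_mul, smul_eq_mul]
  linear_combination hc'

/-- the span of a pairwise orthogonal isotropic family is totally isotropic -/
private theorem ISO_orth_span {ι : Type*} (e : ι → V) (h : ∀ i j, B (e i) (e j) = 0) :
    Orth B (Submodule.span F (Set.range e)) (Submodule.span F (Set.range e)) := by
  intro x hx x' hx'
  induction hx using Submodule.span_induction with
  | mem a ha =>
    obtain ⟨i, rfl⟩ := ha
    induction hx' using Submodule.span_induction with
    | mem b hb =>
      obtain ⟨j, rfl⟩ := hb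
      exact h i j
    | zero => rw [map_zero]
    | add b b' _ _ hb hb' => rw [map_add, hb, hb', add_zero]
    | smul c b _ hb => rw [map_smul, hb, smul_zero]
  | zero => rw [map_zero, LinearMap.zero_apply]
  | add a a' _ _ ha ha' => rw [map_add, LinearMap.add_apply, ha, ha', add_zero]
  | smul c a _ ha => rw [LinearMap.map_smulₛₗ, LinearMap.smul_apply, ha, smul_zero]

/-- totally isotropic subspaces of every dimension up to half the dimension -/
theorem exists_ti_sub (hS : B.IsSymm) (hσ : ∀ a, σ (σ a) = a) (hσ1 : σ ≠ RingHom.id F) :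
    ∀ k : ℕ, ∀ W : Submodule F V, Nd B W → 2 * k ≤ finrank F ↥W →
      ∃ U : Submodule F V, U ≤ W ∧ Orth B U U ∧ finrank F ↥U = k := by
  intro k W hW hk
  -- the flipped form is hermitian in helper37's sense
  have hB' : Cfsg.Agent.Helper37.Lang.IsHerm (ISO_equiv σ hσ) (fun u v : V => B v u) :=
    { add_left := fun u u' v => map_add _ _ _
      add_right := fun u v v' => by rw [map_add, LinearMap.add_apply]
      smul_left := fun c u v => by rw [map_smul, smul_eq_mul]
      smul_right := fun c u v => by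
        rw [LinearMap.map_smulₛₗ, LinearMap.smul_apply, smul_eq_mul, ISO_equiv_apply]
      herm := fun u v => by rw [ISO_equiv_apply]; exact hS.eq v u }
  have hnd : ∀ w ∈ W, w ≠ 0 → ∃ w' ∈ W, (fun u v : V => B v u) w w' ≠ 0 := by
    intro w hw hw0
    by_contra hno
    apply hw0
    apply nd_iff.mp hW w hw
    intro w' hw'
    by_contra h
    exact hno ⟨w', hw', h⟩
  obtain ⟨u, huW, hu⟩ := Cfsg.Agent.Helper37.Lang.exists_orthonormal (fun x => hσ x)
    (ISO_equiv_ne_one hσ hσ1) hB' (finrank F ↥W) W rfl hnd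
  have hu'' : ∀ a b, B (u a) (u b) = if a = b then 1 else 0 := by
    intro a b
    have h := hu b a
    rw [show B (u a) (u b) = (if b = a then (1 : F) else 0) from h]
    exact if_congr eq_comm rfl rfl
  obtain ⟨c, hc⟩ := ISO_exists_norm hσ hσ1 (-1) (by rw [map_neg, map_one])
  -- the isotropic combinations
  have hlt0 : ∀ j : Fin k, 2 * j.val < finrank F ↥W := fun j => by have := j.2; omega
  have hlt1 : ∀ j : Fin k, 2 * j.val + 1 < finrank F ↥W := fun j => by have := j.2; omega
  let i0 : Fin k → Fin (finrank F ↥W) := fun j => ⟨2 * j.val, hlt0 j⟩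
  let i1 : Fin k → Fin (finrank F ↥W) := fun j => ⟨2 * j.val + 1, hlt1 j⟩
  have h00 : ∀ j l : Fin k, i0 j = i0 l ↔ j = l := by
    intro j l
    simp only [i0, Fin.mk.injEq]
    constructor
    · intro h; exact Fin.ext (by omega)
    · intro h; rw [h]
  have h11 : ∀ j l : Fin k, i1 j = i1 l ↔ j = l := by
    intro j l
    simp only [i1, Fin.mk.injEq]
    constructor
    · intro h; exact Fin.ext (by omega)
    · intro h; rw [h]
  have h01 : ∀ j l : Fin k, i0 j ≠ i1 l := by
    intro j l h
    simp only [i0, i1, Fin.mk.injEq] at h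
    omega
  let e : Fin k → V := fun j => u (i0 j) + c • u (i1 j)
  have hpair0 : ∀ j l : Fin k, B (u (i0 j)) (e l) = if j = l then 1 else 0 := by
    intro j l
    show B (u (i0 j)) (u (i0 l) + c • u (i1 l)) = _
    rw [map_add, map_smul, hu'', hu'', if_neg (h01 j l), smul_zero, add_zero]
    exact if_congr (h00 j l) rfl rfl
  have hpair1 : ∀ j l : Fin k, B (u (i1 j)) (e l) = if j = l then c else 0 := by
    intro j l
    show B (u (i1 j)) (u (i0 l) + c • u (i1 l)) = _
    rw [map_add, map_smul, hu'', hu'', if_neg (fun h => h01 l j h.symm), zero_add, smul_eq_mul,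
      mul_ite, mul_one, mul_zero]
    exact if_congr (h11 j l) rfl rfl
  have hee : ∀ j l : Fin k, B (e j) (e l) = 0 := by
    intro j l
    have : B (e j) (e l) = B (u (i0 j)) (e l) + σ c * B (u (i1 j)) (e l) := by
      show B (u (i0 j) + c • u (i1 j)) (e l) = _
      rw [LinearMap.map_add₂, LinearMap.map_smulₛₗ₂, smul_eq_mul]
    rw [this, hpair0, hpair1]
    by_cases hjl : j = l
    · rw [if_pos hjl, if_pos hjl, mul_comm, hc, add_neg_cancel]
    · rw [if_neg hjl, if_neg hjl, mul_zero, add_zero]
  have hli : LinearIndependent F e := by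
    rw [linearIndependent_iff']
    intro s g hsum j hj
    have h1 := congrArg (B (u (i0 j))) hsum
    rw [map_sum, map_zero] at h1
    simp only [map_smul, hpair0, smul_eq_mul, mul_ite, mul_one, mul_zero] at h1
    rw [Finset.sum_ite_eq s j g, if_pos hj] at h1
    exact h1
  refine ⟨Submodule.span F (Set.range e), ?_, ISO_orth_span e hee, ?_⟩
  · rw [Submodule.span_le]
    rintro _ ⟨j, rfl⟩
    exact W.add_mem (huW _) (W.smul_mem c (huW _))
  · rw [finrank_span_eq_card hli, Fintype.card_fin]

end Cfsg.Agent.Helper94.Uh
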