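import Mathlib
import Cfsg.Agent.Helper94.Uh.P_ADJ
import Cfsg.Agent.Helper94.Uh.P_ISO
import Cfsg.Agent.Helper94.Uh.P_IRR
import Cfsg.Agent.Helper94.Uh.P_COMPL
import Cfsg.Agent.Helper94.Uh.P_FIXCYC

set_option autoImplicit false
set_option linter.unusedSectionVars false
set_option linter.unusedVariables false

/-!
# (SDONE) the self-dual case with `b = 1` (`r ∣ q + 1`): a totally isotropic eigenline

`W ≤ cycSp r y` invariant, nondegenerate, of dimension `≥ r`.  All `r`-th roots of unity lie in
`F` (`b = ord_r(|F|) = 1`), `y` is diagonalisable on `W` with eigenvalues among the `r - 1`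
nontrivial `r`-th roots of unity, so some eigenspace `W ⊓ ker (y - λ)` has dimension `≥ 2`
(pigeonhole); it is nondegenerate (`HSetup.nd_inf_ker` with `P = X - C λ`, `P' = Φ_r / P`), so it
contains two orthogonal vectors `u₁, u₂` with `u₂` anisotropic or an isotropic vector; conclude
with `exists_isotropic_comb`.  Any line in an eigenspace is invariant.

Alternative route avoiding kernels: if `W` has no isotropic eigenvector, split off orthogonal
anisotropic eigenvectors one at a time (`exists_irr` gives eigenlines since `b = 1`;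
`Nd.inf_orth`, `UIso.inv_orth`) to get `r` pairwise orthogonal anisotropic eigenvectors; two of
them have the same eigenvalue (only `r - 1` eigenvalues `≠ 1` occur in `cycSp`); combine them.
-/

namespace Cfsg.Agent.Helper94.Uh

open Module Polynomial
open Cfsg.Agent.Helper59.InvChain Cfsg.Agent.Helper59.Elusive
open Cfsg.Agent.Helper99.RDecomp

universe u v

variable {F : Type u} [Field F] [Fintype F] {V : Type v} [AddCommGroup V] [Module F V]
  [FiniteDimensional F V] {σ : F →+* F} {B : V →ₛₗ[σ] V →ₗ[F] F} {y : Module.End F V} {q r : ℕ}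

/-- (helper31) an isotropic eigenvector spans a totally isotropic invariant line -/
theorem SDONE_line {W : Submodule F V} {w : V} {c : F} (hw0 : w ≠ 0) (hwW : w ∈ W)
    (hyw : y w = c • w) (hiso : B w w = 0) :
    ∃ U₀ : Submodule F V, U₀ ≤ W ∧ Inv y U₀ ∧ Orth B U₀ U₀ ∧ finrank F ↥U₀ = 1 := by
  refine ⟨Submodule.span F {w}, ?_, ?_, ?_, finrank_span_singleton hw0⟩
  · rw [Submodule.span_singleton_le_iff_mem]
    exact hwW
  · rw [inv_iff]
    intro u hu
    obtain ⟨a, rfl⟩ := Submodule.mem_span_singleton.mp hu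
    rw [map_smul, hyw]
    exact Submodule.smul_mem _ _ (Submodule.smul_mem _ _ (Submodule.mem_span_singleton_self w))
  · intro u hu u' hu'
    obtain ⟨a, rfl⟩ := Submodule.mem_span_singleton.mp hu
    obtain ⟨a', rfl⟩ := Submodule.mem_span_singleton.mp hu'
    rw [(B (a • w)).map_smul, B.map_smulₛₗ, LinearMap.smul_apply, hiso, smul_zero, smul_zero]

/-- (helper31) `b = 1`: either a totally isotropic invariant line, or `k` pairwise orthogonal
anisotropic eigenvectors -/
theorem SDONE_fam (h : HSetup B q r y)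
    (hb1 : orderOf ((Fintype.card F : ℕ) : ZMod r) = 1) :
    ∀ k : ℕ, ∀ W : Submodule F V, Inv y W → Nd B W → W ≤ cycSp r y → k ≤ finrank F ↥W →
      (∃ U₀ : Submodule F V, U₀ ≤ W ∧ Inv y U₀ ∧ Orth B U₀ U₀ ∧ finrank F ↥U₀ = 1) ∨
      ∃ (u : Fin k → V) (lam : Fin k → F), (∀ i, u i ∈ W) ∧ (∀ i, y (u i) = lam i • u i) ∧
        (∀ i, B (u i) (u i) ≠ 0) ∧ ∀ i j, i ≠ j → B (u i) (u j) = 0 := by
  intro k
  induction k with
  | zero =>
    intro W _ _ _ _
    right
    exact ⟨Fin.elim0, Fin.elim0, fun i => i.elim0, fun i => i.elim0, fun i => i.elim0,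
      fun i => i.elim0⟩
  | succ k ih =>
    intro W hWinv hW hWc hdim
    have hne : W ≠ ⊥ := by
      intro h0
      rw [h0, finrank_bot] at hdim
      omega
    obtain ⟨U₀, hU₀W, hU₀inv, hU₀dim⟩ := exists_irr h hWinv hWc hne
    rw [hb1] at hU₀dim
    obtain ⟨⟨u₀, hu₀U⟩, hu₀ne, hgen⟩ := finrank_eq_one_iff'.mp hU₀dim
    have hu₀0 : u₀ ≠ 0 := fun h0 => hu₀ne (Subtype.ext h0)
    obtain ⟨c, hc⟩ := hgen ⟨y u₀, hU₀inv.apply_mem hu₀U⟩
    have hyu₀ : y u₀ = c • u₀ := (congrArg Subtype.val hc).symm
    by_cases hiso : B u₀ u₀ = 0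
    · left
      exact SDONE_line hu₀0 (hU₀W hu₀U) hyu₀ hiso
    · have hU₀eq : ∀ x ∈ U₀, ∃ a : F, x = a • u₀ := by
        intro x hx
        obtain ⟨a, ha⟩ := hgen ⟨x, hx⟩
        exact ⟨a, (congrArg Subtype.val ha).symm⟩
      have hU₀nd : Nd B U₀ := by
        rw [nd_iff]
        intro x hx hx'
        obtain ⟨a, rfl⟩ := hU₀eq x hx
        have h1 := hx' u₀ hu₀U
        rw [map_smul, smul_eq_mul] at h1
        rcases mul_eq_zero.mp h1 with h2 | h2
        · rw [h2, zero_smul]
        · exact absurd h2 hiso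
      have hW'inv : Inv y (W ⊓ orth B U₀) := inv_inf hWinv (h.inv_orth hU₀inv)
      have hW'nd : Nd B (W ⊓ orth B U₀) := Nd.inf_orth h.symm h.nondeg hU₀W hU₀nd hW
      have hW'c : W ⊓ orth B U₀ ≤ cycSp r y := inf_le_left.trans hWc
      have hW'dim : k ≤ finrank F ↥(W ⊓ orth B U₀) := by
        have := hU₀nd.finrank_inf_orth h.symm h.nondeg hU₀W
        omega
      rcases ih (W ⊓ orth B U₀) hW'inv hW'nd hW'c hW'dim with
        ⟨U, hU1, hU2, hU3, hU4⟩ | ⟨u, lam, hu1, hu2, hu3, hu4⟩
      · left
        exact ⟨U, hU1.trans inf_le_left, hU2, hU3, hU4⟩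
      · right
        have h0j : ∀ j, B u₀ (u j) = 0 := fun j => mem_orth.mp (hu1 j).2 u₀ hu₀U
        refine ⟨Fin.cons u₀ u, Fin.cons c lam, ?_, ?_, ?_, ?_⟩
        · intro i
          refine Fin.cases ?_ (fun i => ?_) i
          · rw [Fin.cons_zero]
            exact hU₀W hu₀U
          · rw [Fin.cons_succ]
            exact (hu1 i).1
        · intro i
          refine Fin.cases ?_ (fun i => ?_) i
          · rw [Fin.cons_zero, Fin.cons_zero]
            exact hyu₀
          · rw [Fin.cons_succ, Fin.cons_succ]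
            exact hu2 i
        · intro i
          refine Fin.cases ?_ (fun i => ?_) i
          · rw [Fin.cons_zero]
            exact hiso
          · rw [Fin.cons_succ]
            exact hu3 i
        · intro i j
          refine Fin.cases ?_ (fun i => ?_) i <;> refine Fin.cases ?_ (fun j => ?_) j
          · intro hij
            exact absurd rfl hij
          · intro _
            rw [Fin.cons_zero, Fin.cons_succ]
            exact h0j j
          · intro _
            rw [Fin.cons_zero, Fin.cons_succ]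
            exact symm_zero h.symm (h0j i)
          · intro hij
            rw [Fin.cons_succ, Fin.cons_succ]
            exact hu4 i j (fun he => hij (by rw [he]))

theorem exists_ti_line_sd (h : HSetup B q r y) (hsd : SD q r)
    (hb1 : orderOf ((Fintype.card F : ℕ) : ZMod r) = 1) {W : Submodule F V}
    (hWinv : Inv y W) (hW : Nd B W) (hWc : W ≤ cycSp r y) (hdim : r ≤ finrank F ↥W) :
    ∃ U₀ : Submodule F V, U₀ ≤ W ∧ Inv y U₀ ∧ Orth B U₀ U₀ ∧ finrank F ↥U₀ = 1 := by
  classical
  rcases SDONE_fam h hb1 r W hWinv hW hWc hdim with hgood | ⟨u, lam, hu1, hu2, hu3, hu4⟩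
  · exact hgood
  · have hu0 : ∀ i, u i ≠ 0 := by
      intro i h0
      apply hu3 i
      rw [h0, map_zero]
    have hroot : ∀ i, lam i ∈ (cyclotomic r F).roots.toFinset := by
      intro i
      rw [Multiset.mem_toFinset, mem_roots (cyclotomic_ne_zero r F), IsRoot.def]
      have h1 : (aeval y (cyclotomic r F)) (u i) = 0 := hWc (hu1 i)
      have h2 : (aeval y (cyclotomic r F)) (u i) = (cyclotomic r F).eval (lam i) • u i :=
        Module.End.aeval_apply_of_hasEigenvector
          ⟨Module.End.mem_eigenspace_iff.mpr (hu2 i), hu0 i⟩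
      rw [h2] at h1
      exact (smul_eq_zero.mp h1).resolve_right (hu0 i)
    have hcard : (cyclotomic r F).roots.toFinset.card < (Finset.univ : Finset (Fin r)).card := by
      rw [Finset.card_univ, Fintype.card_fin]
      have hpos := h.prime.pos
      calc (cyclotomic r F).roots.toFinset.card
          ≤ Multiset.card (cyclotomic r F).roots := Multiset.toFinset_card_le _
        _ ≤ (cyclotomic r F).natDegree := card_roots' _
        _ = r - 1 := by rw [natDegree_cyclotomic, Nat.totient_prime h.prime]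
        _ < r := by omega
    obtain ⟨i, -, j, -, hij, hlam⟩ :=
      Finset.exists_ne_map_eq_of_card_lt_of_maps_to hcard (f := lam) (fun i _ => hroot i)
    obtain ⟨c, hc⟩ := exists_isotropic_comb h.symm h.sigma_sigma h.sigma_ne_id (hu4 i j hij)
      (hu3 j)
    have hw0 : u i + c • u j ≠ 0 := by
      intro h0
      have h1 : B (u i) (u i + c • u j) = B (u i) (u i) := by
        rw [map_add, map_smul, hu4 i j hij, smul_zero, add_zero]
      rw [h0, map_zero] at h1
      exact hu3 i h1.symm
    have hyw : y (u i + c • u j) = lam i • (u i + c • u j) := by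
      rw [map_add, map_smul, hu2 i, hu2 j, ← hlam, smul_add, smul_comm]
    exact SDONE_line hw0 (W.add_mem (hu1 i) (W.smul_mem c (hu1 j))) hyw hc

end Cfsg.Agent.Helper94.Uh
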