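import Mathlib
import Cfsg.Agent.Helper94.Uh.P_NSD
import Cfsg.Agent.Helper94.Uh.P_IRR
import Cfsg.Agent.Helper94.Uh.P_SDBIG
import Cfsg.Agent.Helper94.Uh.P_SDONE
import Cfsg.Agent.Helper94.Uh.P_COMPL
import Cfsg.Agent.Helper94.Uh.P_FIXCYC

set_option autoImplicit false
set_option linter.unusedSectionVars false
set_option linter.unusedVariables false

/-!
# (CYC) totally isotropic invariant subspaces of the cyclotomic part

Port of `Helper94.Ti.ti_of_irr_odd / exists_ti_irr_odd / exists_ti_cyc_odd / exists_ti_irr_even /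
exists_ti_cyc_even` (Cfsg/Agent/Helper94/TiC.lean) with `i ↦ b = ord_r(|F|)`,
"`i` odd" ↦ `¬ SD q r`, "`i` even" ↦ `SD q r`.

* non-self-dual: an invariant subspace of `cycSp` of dimension `b` lies in some `ker P(y)`
  (`exists_ker_of_irr`), which is totally isotropic (`HSetup.orth_ker_self_nsd`); stack with
  threshold `1` (`UIso.stack`).
* self-dual, threshold `r`: `b` is odd (`sd_arith`) and `b ∣ finrank W`, `b ∣ r - 1`; if `b = 1`
  use `exists_ti_line_sd`; if `b ≥ 3` then `finrank W ≥ r` forces `finrank W ≥ r - 1 + b ≥ r + 2`,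
  use `exists_ti_cyclic` (with `z = 1`) and `exists_irr` inside `cycSub y u`.
-/

namespace Cfsg.Agent.Helper94.Uh

open Module Polynomial
open Cfsg.Agent.Helper59.InvChain Cfsg.Agent.Helper59.Elusive
open Cfsg.Agent.Helper99.RDecomp Cfsg.Agent.Helper99.SpStruct

universe u v

variable {F : Type u} [Field F] [Fintype F] {V : Type v} [AddCommGroup V] [Module F V]
  [FiniteDimensional F V] {σ : F →+* F} {B : V →ₛₗ[σ] V →ₗ[F] F} {y : Module.End F V} {q r : ℕ}

theorem ti_of_irr_nsd {p : ℕ} [Fact p.Prime] [CharP F p] (h : HSetup B q r y) (hr2 : r ≠ 2)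
    (hnsd : ¬ SD q r) {U₀ : Submodule F V} (hU₀inv : Inv y U₀) (hU₀c : U₀ ≤ cycSp r y)
    (hU₀dim : finrank F ↥U₀ = orderOf ((Fintype.card F : ℕ) : ZMod r)) : Orth B U₀ U₀ := by
  obtain ⟨P, hPm, hPi, hPd, hle⟩ := exists_ker_of_irr h hU₀inv hU₀c hU₀dim
  exact (h.orth_ker_self_nsd hr2 hnsd hPm hPi hPd).mono hle hle

/-- (helper31) the bottom subspace as a totally isotropic invariant subspace -/
theorem CYC_bot (S : Submodule F V) :
    ∃ U : Submodule F V, U ≤ S ∧ Inv y U ∧ Orth B U U ∧ finrank F ↥U = 0 :=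
  ⟨⊥, bot_le, inv_bot y, fun u hu _ _ => by rw [(Submodule.mem_bot F).mp hu]; simp, by simp⟩

/-- (helper31) the cyclotomic part is nondegenerate -/
theorem CYC_nd_cycSp (h : HSetup B q r y) : Nd B (cycSp r y) := by
  have := h.nd_inf_cyc (inv_top y) (nd_top h.nondeg h.symm)
  rwa [top_inf_eq] at this

/-- (helper31) non-self-dual case: every nonzero invariant subspace of the cyclotomic part
contains a totally isotropic invariant subspace of dimension `b` -/
theorem CYC_exists_ti_irr_nsd {p : ℕ} [Fact p.Prime] [CharP F p] (h : HSetup B q r y)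
    (hr2 : r ≠ 2) (hnsd : ¬ SD q r) {W : Submodule F V} (hWinv : Inv y W)
    (hWc : W ≤ cycSp r y) (hdim : 1 ≤ finrank F ↥W) :
    ∃ U₀ : Submodule F V, U₀ ≤ W ∧ Inv y U₀ ∧ Orth B U₀ U₀ ∧
      finrank F ↥U₀ = orderOf ((Fintype.card F : ℕ) : ZMod r) := by
  have hne : W ≠ ⊥ := by
    intro h0
    rw [h0, finrank_bot] at hdim
    omega
  obtain ⟨U₀, h1, h2, h3⟩ := exists_irr h hWinv hWc hne
  exact ⟨U₀, h1, h2, ti_of_irr_nsd h hr2 hnsd h2 (h1.trans hWc) h3, h3⟩

/-- totally isotropic invariant subspaces of the cyclotomic part, non-self-dual case -/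
theorem exists_ti_cyc_nsd {p : ℕ} [Fact p.Prime] [CharP F p] (h : HSetup B q r y) (hr2 : r ≠ 2)
    (hnsd : ¬ SD q r) (j : ℕ)
    (hj : 2 * (j * orderOf ((Fintype.card F : ℕ) : ZMod r)) ≤ finrank F ↥(cycSp r y)) :
    ∃ U : Submodule F V, U ≤ cycSp r y ∧ Inv y U ∧ Orth B U U ∧
      finrank F ↥U = j * orderOf ((Fintype.card F : ℕ) : ZMod r) := by
  rcases Nat.eq_zero_or_pos j with h0 | hpos
  · subst h0
    rw [zero_mul]
    exact CYC_bot (cycSp r y)
  · obtain ⟨j', rfl⟩ : ∃ j', j = j' + 1 := ⟨j - 1, by omega⟩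
    have hbpos := h.b_pos
    have h1 : (j' + 1) * orderOf ((Fintype.card F : ℕ) : ZMod r) =
        j' * orderOf ((Fintype.card F : ℕ) : ZMod r) +
          orderOf ((Fintype.card F : ℕ) : ZMod r) := by ring
    exact h.toIso.stack (cycSp r y) (orderOf ((Fintype.card F : ℕ) : ZMod r)) 1
      (fun W hWinv _ hWc hdim => CYC_exists_ti_irr_nsd h hr2 hnsd hWinv hWc hdim) j' (cycSp r y)
      (inv_cycSp r y) (CYC_nd_cycSp h) le_rfl (by omega)

/-- self-dual case: an invariant nondegenerate subspace of the cyclotomic part of dimension at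
least `r` contains a totally isotropic invariant subspace of dimension `b` -/
theorem exists_ti_irr_sd (h : HSetup B q r y) (hsd : SD q r)
    (hbr : orderOf ((Fintype.card F : ℕ) : ZMod r) ∣ r - 1) {W : Submodule F V}
    (hWinv : Inv y W) (hW : Nd B W) (hWc : W ≤ cycSp r y) (hdim : r ≤ finrank F ↥W) :
    ∃ U₀ : Submodule F V, U₀ ≤ W ∧ Inv y U₀ ∧ Orth B U₀ U₀ ∧
      finrank F ↥U₀ = orderOf ((Fintype.card F : ℕ) : ZMod r) := by
  have hbpos := h.b_pos
  have hrp := h.prime
  have hbodd : Odd (orderOf ((Fintype.card F : ℕ) : ZMod r)) := by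
    have := (sd_arith hrp hsd).1
    rwa [← h.card] at this
  by_cases hb1 : orderOf ((Fintype.card F : ℕ) : ZMod r) = 1
  · obtain ⟨U₀, h1, h2, h3, h4⟩ := exists_ti_line_sd h hsd hb1 hWinv hW hWc hdim
    exact ⟨U₀, h1, h2, h3, by rw [h4, hb1]⟩
  · -- `b ≥ 3`
    have hb3 : 3 ≤ orderOf ((Fintype.card F : ℕ) : ZMod r) := by
      obtain ⟨k, hk⟩ := hbodd
      omega
    obtain ⟨m, hm⟩ := h.setup.dvd W hWinv hWc
    obtain ⟨t, ht⟩ := hbr
    have hr2 : 2 ≤ r := hrp.two_le
    have hmt : t + 1 ≤ m := by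
      by_contra hlt
      push Not at hlt
      have h1 : m ≤ t := by omega
      have h2 : orderOf ((Fintype.card F : ℕ) : ZMod r) * m ≤
          orderOf ((Fintype.card F : ℕ) : ZMod r) * t := Nat.mul_le_mul_left _ h1
      omega
    have hdim' : r + 2 ≤ finrank F ↥W := by
      have h2 : orderOf ((Fintype.card F : ℕ) : ZMod r) * (t + 1) ≤
          orderOf ((Fintype.card F : ℕ) : ZMod r) * m := Nat.mul_le_mul_left _ hmt
      rw [Nat.mul_add, mul_one] at h2
      omega
    have hodd : Odd r := by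
      apply hrp.odd_of_ne_two
      intro h2
      have h3 : orderOf ((Fintype.card F : ℕ) : ZMod r) ≤ r - 1 :=
        Nat.le_of_dvd (by omega) ⟨t, ht⟩
      omega
    obtain ⟨u, huW, hu0, hu⟩ := exists_ti_cyclic h.symm h.isom hodd (z := 1) one_ne_zero
      (by rw [h.setup.pow_eq, one_smul]) hWinv hdim'
    have hZW : cycSub y u ≤ W := cycSub_le y hWinv huW
    have hZne : cycSub y u ≠ ⊥ := by
      intro h0
      have := self_mem_cycSub y u
      rw [h0] at this
      exact hu0 ((Submodule.mem_bot F).mp this)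
    obtain ⟨U₀, h1, h2, h3⟩ := exists_irr h (inv_cycSub y u) (hZW.trans hWc) hZne
    exact ⟨U₀, h1.trans hZW, h2, hu.mono h1 h1, h3⟩

/-- totally isotropic invariant subspaces of the cyclotomic part, self-dual case -/
theorem exists_ti_cyc_sd (h : HSetup B q r y) (hsd : SD q r)
    (hbr : orderOf ((Fintype.card F : ℕ) : ZMod r) ∣ r - 1) (j : ℕ)
    (hj : j = 0 ∨ r + 2 * ((j - 1) * orderOf ((Fintype.card F : ℕ) : ZMod r)) ≤
      finrank F ↥(cycSp r y)) :
    ∃ U : Submodule F V, U ≤ cycSp r y ∧ Inv y U ∧ Orth B U U ∧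
      finrank F ↥U = j * orderOf ((Fintype.card F : ℕ) : ZMod r) := by
  rcases Nat.eq_zero_or_pos j with h0 | hpos
  · subst h0
    rw [zero_mul]
    exact CYC_bot (cycSp r y)
  · obtain ⟨j', rfl⟩ : ∃ j', j = j' + 1 := ⟨j - 1, by omega⟩
    have hj' : r + 2 * (j' * orderOf ((Fintype.card F : ℕ) : ZMod r)) ≤
        finrank F ↥(cycSp r y) := by
      rcases hj with hj | hj
      · omega
      · simpa using hj
    exact h.toIso.stack (cycSp r y) (orderOf ((Fintype.card F : ℕ) : ZMod r)) r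
      (fun W hWinv hWnd hWc hdim => exists_ti_irr_sd h hsd hbr hWinv hWnd hWc hdim) j'
      (cycSp r y) (inv_cycSp r y) (CYC_nd_cycSp h) le_rfl hj'

end Cfsg.Agent.Helper94.Uh
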