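import Mathlib
import Cfsg.Agent.Helper94.Uh.Conc
import Cfsg.Agent.Helper45.GUBasic

set_option autoImplicit false
set_option linter.unusedSectionVars false
set_option linter.unusedVariables false

/-!
# (DET) unitary matrices: scalars, determinants, `r`-th roots of norm-one elements

Elementary.  `Helper45.GU.det_mul_bar_det` gives `det * det ^ q = 1` for unitary matrices
(`Helper45.GU.hermForm_eq`, `exists_bar`).  The norm-one elements `{w : w ^ (q + 1) = 1}` of `Fˣ`
form a group on which `w ↦ w ^ r` is injective, hence bijective, when `r ∤ q + 1` (`r` prime):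
explicitly `w := z ^ a` with `a * r ≡ 1 (mod q + 1)`.
-/

namespace Cfsg.Agent.Helper94.Uh

open Module

universe u

variable {F : Type u} [Field F] [Fintype F] {q n : ℕ}

private theorem hermForm_smul_smul (w : F) (u v : Fin n → F) :
    Cfsg.hermForm n F q (w • u) (w • v) = w ^ (q + 1) * Cfsg.hermForm n F q u v := by
  simp only [Cfsg.hermForm, Pi.smul_apply, smul_eq_mul, Finset.mul_sum]
  refine Finset.sum_congr rfl fun i _ => ?_
  rw [mul_pow, pow_succ]
  ring

theorem isUM_one : IsUM n q (1 : Matrix (Fin n) (Fin n) F) := by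
  intro u v
  rw [Matrix.one_mulVec, Matrix.one_mulVec]

theorem isUM_mul {A A' : Matrix (Fin n) (Fin n) F} (hA : IsUM n q A) (hA' : IsUM n q A') :
    IsUM n q (A * A') := by
  intro u v
  rw [← Matrix.mulVec_mulVec, ← Matrix.mulVec_mulVec, hA, hA']

theorem isUM_pow {A : Matrix (Fin n) (Fin n) F} (hA : IsUM n q A) (k : ℕ) : IsUM n q (A ^ k) := by
  induction k with
  | zero => rw [pow_zero]; exact isUM_one
  | succ k ih => rw [pow_succ]; exact isUM_mul ih hA

theorem isUM_smul {A : Matrix (Fin n) (Fin n) F} (hA : IsUM n q A) {w : F}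
    (hw : w ^ (q + 1) = 1) : IsUM n q (w • A) := by
  intro u v
  rw [Matrix.smul_mulVec, Matrix.smul_mulVec, hermForm_smul_smul, hw, one_mul, hA]

/-- a unitary scalar has norm one -/
theorem norm_one_of_isUM_smul_one (hn : 0 < n) {z : F}
    (h : IsUM n q (z • (1 : Matrix (Fin n) (Fin n) F))) : z ^ (q + 1) = 1 := by
  classical
  set i0 : Fin n := ⟨0, hn⟩ with hi0
  set u : Fin n → F := Pi.single i0 1 with hu
  have huu : Cfsg.hermForm n F q u u = 1 := by
    simp only [Cfsg.hermForm]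
    rw [Finset.sum_eq_single i0]
    · rw [hu, Pi.single_eq_same, one_pow, one_mul]
    · intro b _ hb
      rw [hu, Pi.single_eq_of_ne hb, zero_mul]
    · intro hnot
      exact absurd (Finset.mem_univ i0) hnot
  have h1 := h u u
  rw [Matrix.smul_mulVec, Matrix.one_mulVec, hermForm_smul_smul, huu, mul_one] at h1
  exact h1

/-- nonzero scalar multiples have the same invariant subspaces -/
theorem goodU_smul {A : Matrix (Fin n) (Fin n) F} {w : F} (hw : w ≠ 0) {m : ℕ} :
    GoodU n q m (w • A) ↔ GoodU n q m A := by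
  have key : ∀ W : Submodule F (Fin n → F),
      W.map (Matrix.toLin' (w • A)) ≤ W ↔ W.map (Matrix.toLin' A) ≤ W := by
    intro W
    have hsm : ∀ x : Fin n → F, Matrix.toLin' (w • A) x = w • Matrix.toLin' A x := by
      intro x
      rw [Matrix.toLin'_apply, Matrix.toLin'_apply, Matrix.smul_mulVec]
    constructor
    · rintro h y ⟨x, hx, rfl⟩
      have h1 : Matrix.toLin' (w • A) x ∈ W := h ⟨x, hx, rfl⟩
      rw [hsm] at h1
      have h2 := W.smul_mem w⁻¹ h1
      rwa [smul_smul, inv_mul_cancel₀ hw, one_smul] at h2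
    · rintro h y ⟨x, hx, rfl⟩
      rw [hsm]
      exact W.smul_mem w (h ⟨x, hx, rfl⟩)
  constructor
  · rintro ⟨W, h1, h2, h3⟩
    exact ⟨W, h1, h2, (key W).1 h3⟩
  · rintro ⟨W, h1, h2, h3⟩
    exact ⟨W, h1, h2, (key W).2 h3⟩

theorem det_pow_of_isUM (hF : Fintype.card F = q ^ 2) {A : Matrix (Fin n) (Fin n) F}
    (hA : IsUM n q A) : A.det ^ (q + 1) = 1 := by
  obtain ⟨bar, hbar⟩ := Cfsg.Agent.Helper45.GU.exists_bar hF
  have h := Cfsg.Agent.Helper45.GU.det_mul_bar_det bar A (by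
    intro u v
    rw [← Cfsg.Agent.Helper45.GU.hermForm_eq n bar hbar, ← Cfsg.Agent.Helper45.GU.hermForm_eq n bar hbar]
    exact hA u v)
  rw [hbar] at h
  rw [pow_succ, mul_comm]
  exact h

theorem eq_one_of_pow_of_norm {r : ℕ} (hr : r.Prime) (hrq : ¬ r ∣ q + 1) {z : F}
    (h1 : z ^ r = 1) (h2 : z ^ (q + 1) = 1) : z = 1 := by
  have hcop : Nat.Coprime r (q + 1) := (Nat.Prime.coprime_iff_not_dvd hr).2 hrq
  have hd1 : orderOf z ∣ r := orderOf_dvd_of_pow_eq_one h1
  have hd2 : orderOf z ∣ q + 1 := orderOf_dvd_of_pow_eq_one h2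
  have hd : orderOf z ∣ 1 := by
    have := Nat.dvd_gcd hd1 hd2
    rwa [hcop.gcd_eq_one] at this
  exact orderOf_eq_one_iff.1 (Nat.dvd_one.1 hd)

theorem det_eq_one_of_pow (hF : Fintype.card F = q ^ 2) {r : ℕ} (hr : r.Prime)
    (hrq : ¬ r ∣ q + 1) {A : Matrix (Fin n) (Fin n) F} (hA : IsUM n q A) (hAr : A ^ r = 1) :
    A.det = 1 := by
  apply eq_one_of_pow_of_norm hr hrq
  · rw [← Matrix.det_pow, hAr, Matrix.det_one]
  · exact det_pow_of_isUM hF hA

theorem exists_norm_one_root {r : ℕ} (hr : r.Prime) (hrq : ¬ r ∣ q + 1) {z : F}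
    (hz : z ^ (q + 1) = 1) : ∃ w : F, w ^ (q + 1) = 1 ∧ w ^ r = z := by
  have hcop : Nat.Coprime r (q + 1) := (Nat.Prime.coprime_iff_not_dvd hr).2 hrq
  by_cases hq : q = 0
  · subst hq
    refine ⟨1, one_pow _, ?_⟩
    rw [zero_add, pow_one] at hz
    rw [one_pow, hz]
  · have hk : 1 < q + 1 := by omega
    obtain ⟨a, -, ha⟩ := Nat.exists_mul_mod_eq_one_of_coprime hcop hk
    refine ⟨z ^ a, ?_, ?_⟩
    · rw [← pow_mul, mul_comm, pow_mul, hz, one_pow]
    · rw [← pow_mul, mul_comm a r, ← Nat.div_add_mod (r * a) (q + 1), ha, pow_add, pow_mul, hz,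
        one_pow, one_mul, pow_one]

end Cfsg.Agent.Helper94.Uh
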