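import Mathlib
import Cfsg.Agent.Helper94.Uh.Conc
import Cfsg.Agent.Helper38.PGUExist
import Cfsg.Agent.Helper43.GUPrimeD
import Cfsg.Agent.Helper99.SpElt
import Cfsg.Agent.Helper94.Uh.P_ADJ

set_option autoImplicit false
set_option linter.unusedSectionVars false
set_option linter.unusedVariables false

/-!
# (ELT1) unitary matrices of order `r` with `k` blocks

Port of `Helper99.SpElt.exists_sp_elt` (Cfsg/Agent/Helper99/SpElt.lean, lines 100-212).
Take a monic irreducible factor `P` of `Φ_r` over `F` (degree `b = ord_r(q²)`,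
`Helper59.Elusive.HP_cyclotomic`), `G := P` in the self-dual case
(`utilde bar P = P`: apply `Helper43.GUPrime.utilde_charpoly_eq` to a matrix with
characteristic polynomial `P` (`Helper43.SS.exists_matrix_charpoly`), with `2 e + 1 = b`,
`r ∣ q ^ b + 1` from `sd_arith`) and `G := P * utilde bar P` otherwise
(`utilde_props`: monic, same degree, involutive; `≠ P` is not needed here).
`f := G ^ k * (X - 1) ^ (n - k * c)` is `utilde`-fixed, monic of degree `n`, `f(0) ≠ 0`;
`Helper38.PGU.exists_GU_charpoly` gives `g ∈ GU_n(q)` of order prime to `p` with characteristic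
polynomial `f`; all irreducible factors of `f` divide `X ^ r - 1`, so `g ^ r = 1`
(`Helper43.SS.aeval_eq_zero_of_factors`, as in `Helper43.GUPrime.card_classes_prime_order_gu`);
`finrank (fixSp g) = rootMultiplicity 1 f = n - k * c`
(`SpElt.finrank_fixSp_eq_rootMultiplicity`, `SpElt.rootMultiplicity_model`).
-/

namespace Cfsg.Agent.Helper94.Uh

open Module Polynomial
open Cfsg.Agent.Helper59.InvChain Cfsg.Agent.Helper59.Elusive
open Cfsg.Agent.Helper99.RDecomp Cfsg.Agent.Helper99.SpStruct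
open Cfsg.Agent.Helper43.SpPrime Cfsg.Agent.Helper43.SS Cfsg.Agent.Helper43.GUPrime
open Cfsg.Agent.S0837

universe u

variable {F : Type u} [Field F] [Fintype F] {q n : ℕ} {p : ℕ} [Fact p.Prime] [CharP F p]

/-- (ELT1 aux) a matrix of order prime to `p` all of whose characteristic factors divide
`X ^ r - 1` has `A ^ r = 1` -/
theorem ELT1_pow_eq_one {d : ℕ} (A : Matrix (Fin d) (Fin d) F) (k' : ℕ) (hk'p : k'.Coprime p)
    (hAk : A ^ k' = 1) (r : ℕ) (hr : 0 < r)
    (hfac : ∀ Q : F[X], Q.Monic → Irreducible Q → Q ∣ A.charpoly → Q ∣ (X ^ r - 1 : F[X])) :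
    A ^ r = 1 := by
  have hp : p.Prime := Fact.out
  have hkF : (k' : F) ≠ 0 := by
    intro h0
    rw [CharP.cast_eq_zero_iff F p k'] at h0
    have : p ∣ Nat.gcd k' p := Nat.dvd_gcd h0 dvd_rfl
    rw [hk'p] at this
    exact hp.one_lt.ne' (Nat.dvd_one.mp this)
  have hX0 : (X ^ r - 1 : F[X]) ≠ 0 := by
    intro h0
    have h1 := congrArg (fun g : F[X] => g.coeff r) h0
    simp only [coeff_sub, coeff_X_pow, coeff_one, coeff_zero] at h1
    rw [if_pos trivial, if_neg hr.ne'] at h1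
    simp at h1
  have := aeval_eq_zero_of_factors A k' hkF hAk (X ^ r - 1 : F[X]) hX0 hfac
  rw [map_sub, map_pow, aeval_X, map_one] at this
  exact sub_eq_zero.mp this

/-- (ELT1 aux) the block polynomial -/
theorem ELT1_exists_block (hF : Fintype.card F = q ^ 2) (r : ℕ) [Fact r.Prime] (hrp : r ≠ p) :
    ∃ G : F[X], G.Monic ∧
      G.natDegree = ublock q r (orderOf ((Fintype.card F : ℕ) : ZMod r)) ∧
      (∀ Q : F[X], Q.Monic → Irreducible Q → Q ∣ G → Q ∣ (X ^ r - 1 : F[X])) ∧ G.eval 1 ≠ 0 ∧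
      G.coeff 0 ≠ 0 ∧ utilde (frobHom hF) G = G := by
  classical
  have hr : r.Prime := Fact.out
  have hrF : (r : F) ≠ 0 := natCast_ne_zero_of_ne r hrp
  set b := orderOf ((Fintype.card F : ℕ) : ZMod r) with hbdef
  have hbpos : 0 < b := orderOf_card_pos r hrp
  have hbar : ∀ x, frobHom hF x = x ^ q := fun x => frobHom_apply hF x
  have hbar2 : ∀ x, frobHom hF (frobHom hF x) = x := fun x => frobHom_frobHom hF x
  have hnu : ¬ IsUnit (cyclotomic r F) := by
    apply not_isUnit_of_natDegree_pos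
    rw [natDegree_cyclotomic, Nat.totient_prime hr]
    have := hr.two_le
    omega
  obtain ⟨P, hPm, hPi, hPd⟩ := exists_monic_irreducible_factor _ hnu
  have hPdeg : P.natDegree = b := (HP_cyclotomic r hrp).2 P hPi hPd
  have hP1 : P.eval 1 ≠ 0 := Cfsg.Agent.Helper99.SpElt.eval_one_ne_zero_of_dvd_cyclotomic r hrF hPd
  have hPdvd : P ∣ (X ^ r - 1 : F[X]) := hPd.trans (cyclotomic.dvd_X_pow_sub_one r F)
  have hP0 : P.coeff 0 ≠ 0 := coeff_zero_ne_of_dvd_X_pow_sub_one hr.pos hPdvd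
  by_cases hsd : SD q r
  · -- self-dual case
    obtain ⟨hodd, hpow⟩ := sd_arith hr hsd
    have hbq : orderOf ((q ^ 2 : ℕ) : ZMod r) = b := by rw [hbdef, hF]
    rw [hbq] at hodd hpow
    obtain ⟨e, he⟩ := hodd
    have hre : r ∣ q ^ (2 * e + 1) + 1 := by
      rw [← he, ← ZMod.natCast_eq_zero_iff]
      push_cast
      rw [hpow]
      ring
    obtain ⟨A, hA, k', hk'0, hk'p, hAk⟩ := exists_matrix_charpoly p b P hPm hPdeg hP0
    have hAr : A ^ r = 1 := ELT1_pow_eq_one A k' hk'p hAk r hr.pos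
      (fun Q _ _ hQ => (hA ▸ hQ).trans hPdvd)
    have hu := utilde_charpoly_eq p hF (frobHom hF) hbar hr.pos hre A hAr
    rw [hA] at hu
    exact ⟨P, hPm, by rw [ublock_sd hsd, hPdeg], fun Q _ _ hQ => hQ.trans hPdvd, hP1, hP0, hu⟩
  · -- the other case
    obtain ⟨hSm, hS0, hSd, hSS⟩ := utilde_props (frobHom hF) hbar2 P hPm hP0
    have hSdvd : utilde (frobHom hF) P ∣ (X ^ r - 1 : F[X]) := by
      have := utilde_dvd (frobHom hF) hPdvd
      rwa [utilde_X_pow_sub_one (frobHom hF) hr.pos] at this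
    have hS1 : (utilde (frobHom hF) P).eval 1 ≠ 0 := by
      intro h0
      have h1 : (X - C 1 : F[X]) ∣ utilde (frobHom hF) P := dvd_iff_isRoot.mpr h0
      rw [← Cfsg.Agent.Helper99.SpElt.X_sub_one_eq] at h1
      have h2 := utilde_dvd (frobHom hF) h1
      rw [utilde_X_sub_one, hSS, Cfsg.Agent.Helper99.SpElt.X_sub_one_eq, dvd_iff_isRoot] at h2
      exact hP1 h2
    refine ⟨P * utilde (frobHom hF) P, hPm.mul hSm, ?_, ?_, ?_, ?_, ?_⟩
    · rw [hPm.natDegree_mul hSm, hSd, hPdeg, ublock_nsd hsd]; ring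
    · intro Q _ hQi hQ
      rcases hQi.prime.dvd_or_dvd hQ with h | h
      · exact h.trans hPdvd
      · exact h.trans hSdvd
    · rw [eval_mul]; exact mul_ne_zero hP1 hS1
    · rw [mul_coeff_zero]; exact mul_ne_zero hP0 hS0
    · rw [utilde_mul, hSS, mul_comm]

theorem exists_umat (hF : Fintype.card F = q ^ 2) (r : ℕ) [Fact r.Prime] (hrp : r ≠ p)
    (hr2 : r ≠ 2) (k : ℕ) (hk : 0 < k)
    (hkc : k * ublock q r (orderOf ((Fintype.card F : ℕ) : ZMod r)) ≤ n) :
    ∃ A : Matrix (Fin n) (Fin n) F, IsUM n q A ∧ A ^ r = 1 ∧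
      finrank F ↥(fixSp (Matrix.toLin' A)) =
        n - k * ublock q r (orderOf ((Fintype.card F : ℕ) : ZMod r)) := by
  classical
  have hr : r.Prime := Fact.out
  have hrF : (r : F) ≠ 0 := natCast_ne_zero_of_ne r hrp
  have hbar : ∀ x, frobHom hF x = x ^ q := fun x => frobHom_apply hF x
  obtain ⟨G, hGm, hGd, hGfac, hG1, hG0, hGu⟩ := ELT1_exists_block (p := p) hF r hrp
  set c := ublock q r (orderOf ((Fintype.card F : ℕ) : ZMod r)) with hc
  set e := n - k * c with he
  have hLm : (X - 1 : F[X]).Monic := Cfsg.Agent.Helper43.Lagr.X_sub_one_monic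
  have hLd : (X - 1 : F[X]).natDegree = 1 := by
    rw [Cfsg.Agent.Helper99.SpElt.X_sub_one_eq]; exact natDegree_X_sub_C 1
  have hLdvd : (X - 1 : F[X]) ∣ X ^ r - 1 := by
    have := sub_dvd_pow_sub_pow (X : F[X]) 1 r
    rwa [one_pow] at this
  set f : F[X] := G ^ k * (X - 1) ^ e with hf
  have hfm : f.Monic := (hGm.pow k).mul (hLm.pow e)
  have hfd : f.natDegree = n := by
    rw [hf, (hGm.pow k).natDegree_mul (hLm.pow e), hGm.natDegree_pow, hLm.natDegree_pow, hLd, hGd,
      mul_one]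
    omega
  have hf0 : f.coeff 0 ≠ 0 := by
    rw [hf, mul_coeff_zero]
    apply mul_ne_zero
    · rw [coeff_zero_eq_eval_zero, eval_pow, ← coeff_zero_eq_eval_zero]
      exact pow_ne_zero _ hG0
    · rw [coeff_zero_eq_eval_zero, eval_pow, eval_sub, eval_X, eval_one, zero_sub]
      exact pow_ne_zero _ (neg_ne_zero.mpr one_ne_zero)
  have hfu : utilde (frobHom hF) f = f := by
    rw [hf, utilde_mul, utilde_pow, utilde_pow, utilde_X_sub_one, hGu]
  obtain ⟨B, hBch, k', hk'0, hk'p, hBk⟩ :=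
    Cfsg.Agent.Helper38.PGU.exists_GU_charpoly p hF (frobHom hF) hbar n f hfm hfd hf0 hfu
  set A : Matrix (Fin n) (Fin n) F := ((B : GL (Fin n) F) : Matrix (Fin n) (Fin n) F) with hA
  have hAk : A ^ k' = 1 := by
    have h1 := congrArg (fun g : ↥(Cfsg.GU n F q) => ((g : GL (Fin n) F) : Matrix (Fin n) (Fin n) F)) hBk
    simpa using h1
  have hfac : ∀ Q : F[X], Q.Monic → Irreducible Q → Q ∣ A.charpoly → Q ∣ (X ^ r - 1 : F[X]) := by
    intro Q hQm hQi hQ
    rw [hBch, hf] at hQ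
    rcases hQi.prime.dvd_or_dvd hQ with h | h
    · exact hGfac Q hQm hQi (hQi.prime.dvd_of_dvd_pow h)
    · exact (hQi.prime.dvd_of_dvd_pow h).trans hLdvd
  have hAr : A ^ r = 1 := ELT1_pow_eq_one A k' hk'p hAk r hr.pos hfac
  refine ⟨A, B.2, hAr, ?_⟩
  have hy : (Matrix.toLin' A) ^ r = 1 := by
    rw [← Matrix.toLin'_pow, hAr, Matrix.toLin'_one]
    rfl
  rw [Cfsg.Agent.Helper99.SpElt.finrank_fixSp_eq_rootMultiplicity r hrF _ hy,
    Matrix.charpoly_toLin', hBch, hf,
    Cfsg.Agent.Helper99.SpElt.rootMultiplicity_model G hGm.ne_zero hG1 k e]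

end Cfsg.Agent.Helper94.Uh
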