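import Mathlib
import Cfsg.Agent.Helper94.Uh.Conc
import Cfsg.Agent.Helper38.PGUExist
import Cfsg.Agent.Helper43.GUPrimeD
import Cfsg.Agent.Helper99.SpElt
import Cfsg.Agent.Helper94.TiH
import Cfsg.Agent.Helper94.Uh.P_ADJ

set_option autoImplicit false
set_option linter.unusedSectionVars false
set_option linter.unusedVariables false

/-!
# (ELT2) unitary matrices of order `r` with a multiplicity-free cyclotomic part (self-dual case)

Port of `Helper94.Ti.exists_sp_elt_aniso` (Cfsg/Agent/Helper94/TiH.lean, lines 120-300; it uses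
`Ti.exists_factor_finset`, `Ti.sum_finrank_ker`, `Ti.ker_ne_bot_of_dvd_charpoly`).
`f := (∏ P ∈ T, P) * (X - 1) ^ (n - u * b)` with `T` a set of `u` monic irreducible factors of
`Φ_r` (there are `(r - 1) / b ≥ u` of them); every `P ∈ T` is `utilde`-fixed in the self-dual
case (`Helper43.GUPrime.utilde_charpoly_eq` applied to a matrix with characteristic polynomial
`P`, `2 e + 1 = b`, see (ELT1)); `Helper38.PGU.exists_GU_charpoly`.
-/

namespace Cfsg.Agent.Helper94.Uh

open Module Polynomial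
open Cfsg.Agent.Helper59.InvChain Cfsg.Agent.Helper59.Elusive
open Cfsg.Agent.Helper99.RDecomp Cfsg.Agent.Helper99.SpStruct Cfsg.Agent.Helper99
open Cfsg.Agent.Helper94
open Cfsg.Agent.Helper43.SpPrime

universe u

variable {F : Type u} [Field F] [Fintype F] {q n : ℕ} {p : ℕ} [Fact p.Prime] [CharP F p]

theorem exists_umat_aniso (hF : Fintype.card F = q ^ 2) (r : ℕ) [Fact r.Prime] (hrp : r ≠ p)
    (hr2 : r ≠ 2) (hsd : SD q r) (u : ℕ) (hu : 0 < u)
    (hut : u * orderOf ((Fintype.card F : ℕ) : ZMod r) ≤ r - 1)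
    (hun : u * orderOf ((Fintype.card F : ℕ) : ZMod r) ≤ n) :
    ∃ A : Matrix (Fin n) (Fin n) F, IsUM n q A ∧ A ^ r = 1 ∧
      finrank F ↥(fixSp (Matrix.toLin' A)) =
        n - u * orderOf ((Fintype.card F : ℕ) : ZMod r) ∧
      ∀ P : F[X], Irreducible P → P ∣ cyclotomic r F →
        finrank F ↥(LinearMap.ker (aeval (Matrix.toLin' A) P)) ≤
          orderOf ((Fintype.card F : ℕ) : ZMod r) := by
  classical
  have hr : r.Prime := Fact.out
  have hp : p.Prime := Fact.out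
  have hrF : (r : F) ≠ 0 := natCast_ne_zero_of_ne r hrp
  set i := orderOf ((Fintype.card F : ℕ) : ZMod r) with hidef
  have hipos : 0 < i := orderOf_card_pos r hrp
  have hHP := HP_cyclotomic (F := F) r hrp
  have hsep : (X ^ r - 1 : F[X]).Separable := by
    have := Polynomial.separable_X_pow_sub_C (1 : F) hrF one_ne_zero
    simpa using this
  have hsq : Squarefree (cyclotomic r F) :=
    (hsep.of_dvd (cyclotomic.dvd_X_pow_sub_one r F)).squarefree
  obtain ⟨𝔉, h𝔉1, h𝔉2, h𝔉prod⟩ := Ti.exists_factor_finset (cyclotomic r F)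
    (cyclotomic.monic r F) hsq
  have hdeg : ∀ P ∈ 𝔉, P.natDegree = i := fun P hP =>
    hHP.2 P (h𝔉1 P hP).2.1 (h𝔉1 P hP).2.2
  have hcard : 𝔉.card * i = r - 1 := by
    have h1 : (∏ P ∈ 𝔉, P).natDegree = ∑ P ∈ 𝔉, P.natDegree :=
      natDegree_prod_of_monic _ _ (fun P hP => (h𝔉1 P hP).1)
    rw [h𝔉prod, natDegree_cyclotomic, Nat.totient_prime hr, Finset.sum_congr rfl hdeg,
      Finset.sum_const, smul_eq_mul] at h1
    exact h1.symm
  have hule : u ≤ 𝔉.card := by
    by_contra hcon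
    have hcon' : 𝔉.card + 1 ≤ u := by omega
    have : (𝔉.card + 1) * i ≤ u * i := Nat.mul_le_mul_right i hcon'
    have e1 : (𝔉.card + 1) * i = 𝔉.card * i + i := by ring
    omega
  obtain ⟨S, hS𝔉, hScard⟩ := Finset.exists_subset_card_eq hule
  have hSne : S.Nonempty := by
    rw [← Finset.card_pos, hScard]; exact hu
  set G := ∏ P ∈ S, P with hG
  have hGm : G.Monic := monic_prod_of_monic _ _ (fun P hP => (h𝔉1 P (hS𝔉 hP)).1)
  have hGd : G.natDegree = u * i := by
    rw [hG, natDegree_prod_of_monic _ _ (fun P hP => (h𝔉1 P (hS𝔉 hP)).1),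
      Finset.sum_congr rfl (fun P hP => hdeg P (hS𝔉 hP)), Finset.sum_const, smul_eq_mul, hScard]
  have hcycdvd : cyclotomic r F ∣ (X ^ r - 1 : F[X]) := cyclotomic.dvd_X_pow_sub_one r F
  have hGdvd : G ∣ cyclotomic r F := by
    rw [← h𝔉prod]
    exact Finset.prod_dvd_prod_of_subset _ _ _ hS𝔉
  have hG1 : G.eval 1 ≠ 0 := SpElt.eval_one_ne_zero_of_dvd_cyclotomic r hrF hGdvd
  set e := n - u * i with he
  have hLm : (X - 1 : F[X]).Monic := by
    rw [SpElt.X_sub_one_eq]; exact monic_X_sub_C 1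
  have hLd : (X - 1 : F[X]).natDegree = 1 := by
    rw [SpElt.X_sub_one_eq]; exact natDegree_X_sub_C 1
  have hLdvd : (X - 1 : F[X]) ∣ X ^ r - 1 := by
    have := sub_dvd_pow_sub_pow (X : F[X]) 1 r
    rwa [one_pow] at this
  have hrm : rootMultiplicity 1 (G * (X - 1) ^ e) = e := by
    have := SpElt.rootMultiplicity_model G hGm.ne_zero hG1 1 e
    rwa [pow_one] at this
  -- the model polynomial
  have hfm : (G * (X - 1) ^ e).Monic := hGm.mul (hLm.pow e)
  have hfd : (G * (X - 1) ^ e).natDegree = n := by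
    rw [hGm.natDegree_mul (hLm.pow e), hLm.natDegree_pow, hLd, hGd, mul_one]
    omega
  have hfac : ∀ Q : F[X], Q.Monic → Irreducible Q → Q ∣ G * (X - 1) ^ e → Q ∣ X ^ r - 1 := by
    intro Q hQm hQi hQ
    rcases hQi.prime.dvd_or_dvd hQ with h | h
    · exact h.trans (hGdvd.trans hcycdvd)
    · exact (hQi.prime.dvd_of_dvd_pow h).trans hLdvd
  have hf0 : (G * (X - 1) ^ e).coeff 0 ≠ 0 := by
    rw [coeff_zero_eq_eval_zero, eval_mul, eval_pow, eval_sub, eval_X, eval_one]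
    apply mul_ne_zero
    · intro h0
      obtain ⟨Q', hQ'⟩ := hGdvd.trans hcycdvd
      have h1 := congrArg (eval 0) hQ'
      rw [eval_mul, h0, zero_mul, eval_sub, eval_pow, eval_X, eval_one, zero_pow hr.ne_zero,
        zero_sub] at h1
      exact one_ne_zero (neg_eq_zero.mp h1)
    · exact pow_ne_zero _ (by rw [zero_sub]; exact neg_ne_zero.mpr one_ne_zero)
  have hX0 : (X ^ r - 1 : F[X]) ≠ 0 := by
    intro h0
    have h1 := congrArg (eval 0) h0
    rw [eval_sub, eval_pow, eval_X, eval_one, zero_pow hr.ne_zero, zero_sub, eval_zero] at h1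
    exact one_ne_zero (neg_eq_zero.mp h1)
  have hkF : ∀ k : ℕ, k.Coprime p → (k : F) ≠ 0 := by
    intro k hkp h0
    rw [CharP.cast_eq_zero_iff F p k] at h0
    have : p ∣ Nat.gcd k p := Nat.dvd_gcd h0 dvd_rfl
    rw [hkp] at this
    exact hp.one_lt.ne' (Nat.dvd_one.mp this)
  have hpow_of : ∀ (M : Matrix (Fin n) (Fin n) F) (k : ℕ), k.Coprime p → M ^ k = 1 →
      M.charpoly = G * (X - 1) ^ e → M ^ r = 1 := by
    intro M k hkp hMk hMch
    have h1 := Cfsg.Agent.Helper43.SS.aeval_eq_zero_of_factors M k (hkF k hkp) hMk (X ^ r - 1) hX0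
      (by rw [hMch]; exact hfac)
    rw [map_sub, map_pow, aeval_X, map_one] at h1
    exact sub_eq_zero.mp h1
  -- `utilde`-invariance via a model matrix
  obtain ⟨A0, hA0, k0, -, hk0p, hA0k⟩ :=
    Cfsg.Agent.Helper43.SS.exists_matrix_charpoly (F := F) p n (G * (X - 1) ^ e) hfm hfd hf0
  have hA0r : A0 ^ r = 1 := hpow_of A0 k0 hk0p hA0k hA0
  obtain ⟨bar, hbar⟩ := Cfsg.Agent.Helper45.GU.exists_bar hF
  obtain ⟨hodd, hqb⟩ := sd_arith hr hsd
  have hbi : orderOf (((q ^ 2 : ℕ)) : ZMod r) = i := by rw [hidef, hF]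
  rw [hbi] at hodd hqb
  obtain ⟨e', he'⟩ := hodd
  have hre : r ∣ q ^ (2 * e' + 1) + 1 := by
    rw [← he', ← ZMod.natCast_eq_zero_iff]
    push_cast
    rw [hqb, neg_add_cancel]
  have hfu : Cfsg.Agent.Helper43.GUPrime.utilde bar (G * (X - 1) ^ e) = G * (X - 1) ^ e := by
    have h1 := Cfsg.Agent.Helper43.GUPrime.utilde_charpoly_eq p hF bar hbar hr.pos hre A0 hA0r
    rwa [hA0] at h1
  obtain ⟨B, hBch, k, -, hkp, hBk⟩ :=
    Cfsg.Agent.Helper38.PGU.exists_GU_charpoly p hF bar hbar n (G * (X - 1) ^ e) hfm hfd hf0 hfu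
  set A : Matrix (Fin n) (Fin n) F := ((B : GL (Fin n) F) : Matrix (Fin n) (Fin n) F) with hA
  have hAU : IsUM n q A := fun u v => B.2 u v
  have hAk : A ^ k = 1 := by
    have h1 := congrArg (fun g : ↥(Cfsg.GU n F q) =>
      ((g : GL (Fin n) F) : Matrix (Fin n) (Fin n) F)) hBk
    simpa using h1
  have hAr : A ^ r = 1 := hpow_of A k hkp hAk hBch
  set y := Matrix.toLin' A with hy
  have hyr : y ^ r = 1 := by
    rw [hy, ← Matrix.toLin'_pow, hAr, Matrix.toLin'_one]
    rfl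
  have hfix : finrank F ↥(fixSp y) = e := by
    rw [SpElt.finrank_fixSp_eq_rootMultiplicity r hrF _ hyr, hy, Matrix.charpoly_toLin', hBch, hrm]
  refine ⟨A, hAU, hAr, hfix, ?_⟩
  -- the kernel bound
  have hsetup : Cfsg.Agent.Helper99.RDecomp.Setup r y i := setup_of (F := F) r hrp y hyr
  have htot := hsetup.total
  rw [Module.finrank_fintype_fun_eq_card, Fintype.card_fin, hfix] at htot
  have hcyc : finrank F ↥(cycSp r y) = u * i := by omega
  have hcop : ∀ P ∈ 𝔉, ∀ Q ∈ 𝔉, P ≠ Q → IsCoprime P Q := fun P hP Q hQ hne =>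
    Ti.isCoprime_of_monic_irreducible (h𝔉1 P hP).1 (h𝔉1 P hP).2.1 (h𝔉1 Q hQ).1 (h𝔉1 Q hQ).2.1 hne
  have hsum := Ti.sum_finrank_ker y 𝔉 hcop
  rw [h𝔉prod] at hsum
  have hsum' : ∑ P ∈ 𝔉, finrank F ↥(LinearMap.ker (aeval y P)) = u * i := by
    rw [hsum]; exact hcyc
  have hge : ∀ Q ∈ S, i ≤ finrank F ↥(LinearMap.ker (aeval y Q)) := by
    intro Q hQ
    have hQ𝔉 := hS𝔉 hQ
    have hQdvd : Q ∣ A.charpoly := by
      rw [hBch]
      exact (Finset.dvd_prod_of_mem _ hQ).mul_right _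
    have hne := Ti.ker_ne_bot_of_dvd_charpoly _ r hrF hAr Q (h𝔉1 Q hQ𝔉).1 (h𝔉1 Q hQ𝔉).2.1 hQdvd
    have hle : LinearMap.ker (aeval y Q) ≤ cycSp r y := by
      intro v hv
      obtain ⟨Q', hQ'⟩ := (h𝔉1 Q hQ𝔉).2.2
      show v ∈ LinearMap.ker (aeval y (cyclotomic r F))
      rw [LinearMap.mem_ker, hQ', mul_comm, map_mul, Module.End.mul_apply,
        LinearMap.mem_ker.mp hv, map_zero]
    obtain ⟨c, hc⟩ := hsetup.dvd _ (inv_ker_aeval y Q) hle
    have hpos : 0 < finrank F ↥(LinearMap.ker (aeval y Q)) := by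
      rw [Nat.pos_iff_ne_zero]
      intro h0
      exact hne (Submodule.finrank_eq_zero.mp h0)
    rcases Nat.eq_zero_or_pos c with h0 | hcpos
    · rw [h0, mul_zero] at hc; omega
    · have : i ≤ i * c := Nat.le_mul_of_pos_right i hcpos
      omega
  intro P hPi hPd
  -- normalize
  have hP0 : P ≠ 0 := hPi.ne_zero
  set P₀ := P * C P.leadingCoeff⁻¹ with hP₀
  have hP₀m : P₀.Monic := monic_mul_leadingCoeff_inv hP0
  have hlc : P.leadingCoeff⁻¹ ≠ 0 := inv_ne_zero (leadingCoeff_ne_zero.mpr hP0)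
  have hunit : IsUnit (C P.leadingCoeff⁻¹ : F[X]) := isUnit_C.mpr (isUnit_iff_ne_zero.mpr hlc)
  have hP₀i : Irreducible P₀ := (irreducible_mul_isUnit hunit).mpr hPi
  have hP₀d : P₀ ∣ cyclotomic r F := (IsUnit.mul_right_dvd hunit).mpr hPd
  have hP₀𝔉 : P₀ ∈ 𝔉 := h𝔉2 P₀ hP₀m hP₀i hP₀d
  have hkereq : LinearMap.ker (aeval y P) = LinearMap.ker (aeval y P₀) := by
    ext v
    rw [LinearMap.mem_ker, LinearMap.mem_ker, hP₀, mul_comm, map_mul, aeval_C,
      Module.End.mul_apply, Module.algebraMap_end_apply]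
    constructor
    · intro h; rw [h, smul_zero]
    · intro h
      rcases smul_eq_zero.mp h with h' | h'
      · exact absurd h' hlc
      · exact h'
  rw [hkereq]
  -- the sum bound
  have hsplit : finrank F ↥(LinearMap.ker (aeval y P₀)) +
      ∑ Q ∈ S.erase P₀, finrank F ↥(LinearMap.ker (aeval y Q)) ≤ u * i := by
    rw [← hsum']
    have hsub : insert P₀ (S.erase P₀) ⊆ 𝔉 := by
      intro Q hQ
      rcases Finset.mem_insert.mp hQ with rfl | hQ
      · exact hP₀𝔉
      · exact hS𝔉 (Finset.mem_of_mem_erase hQ)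
    calc finrank F ↥(LinearMap.ker (aeval y P₀)) +
          ∑ Q ∈ S.erase P₀, finrank F ↥(LinearMap.ker (aeval y Q))
        = ∑ Q ∈ insert P₀ (S.erase P₀), finrank F ↥(LinearMap.ker (aeval y Q)) := by
          rw [Finset.sum_insert (Finset.notMem_erase _ _)]
      _ ≤ ∑ Q ∈ 𝔉, finrank F ↥(LinearMap.ker (aeval y Q)) :=
          Finset.sum_le_sum_of_subset hsub
  have hrest : (u - 1) * i ≤ ∑ Q ∈ S.erase P₀, finrank F ↥(LinearMap.ker (aeval y Q)) := by
    have h1 : (S.erase P₀).card * i ≤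
        ∑ Q ∈ S.erase P₀, finrank F ↥(LinearMap.ker (aeval y Q)) := by
      rw [← smul_eq_mul, ← Finset.sum_const]
      exact Finset.sum_le_sum (fun Q hQ => hge Q (Finset.mem_of_mem_erase hQ))
    have h2 : u - 1 ≤ (S.erase P₀).card := by
      have := Finset.pred_card_le_card_erase (s := S) (a := P₀)
      rw [hScard] at this
      exact this
    exact (Nat.mul_le_mul_right i h2).trans h1
  have e1 : u * i = (u - 1) * i + i := by
    have : u = (u - 1) + 1 := by omega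
    conv_lhs => rw [this]
    ring
  omega

end Cfsg.Agent.Helper94.Uh
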