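import Mathlib
import Cfsg.Agent.Helper94.Uh.Conc
import Cfsg.Agent.Helper67.UhELT3

set_option autoImplicit false
set_option linter.unusedSectionVars false
set_option linter.unusedVariables false

/-!
# (ELT3) the case `r ∣ q + 1`: diagonal unitary matrices of determinant one with `u` (even)
distinct nontrivial eigenvalues, each of multiplicity one

`ζ ∈ F` of order `r` (`r ∣ q + 1 ∣ q² - 1 = |Fˣ|`, `ζ ^ (q + 1) = 1`);
`A = diagonal (ζ, ζ⁻¹, ζ², ζ⁻², …, ζ^(u/2), ζ^(-u/2), 1, …, 1)`; the `u ≤ r - 1` nontrivial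
entries are pairwise distinct, the determinant is `1`, `A ^ r = 1`, `A` is unitary (entries of
norm one); the fixed space is spanned by the last `n - u` basis vectors; an irreducible factor of
`Φ_r` is `X - C λ` up to a unit (all `r`-th roots of unity lie in `F`) and
`ker (A - λ)` is spanned by the basis vectors `e_j` with `d_j = λ`: at most one.
-/

namespace Cfsg.Agent.Helper94.Uh

open Module Polynomial
open Cfsg.Agent.Helper59.InvChain Cfsg.Agent.Helper59.Elusive

universe u

variable {F : Type u} [Field F] [Fintype F] {q n : ℕ} {p : ℕ} [Fact p.Prime] [CharP F p]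

theorem exists_umat_aniso_two (hF : Fintype.card F = q ^ 2) (r : ℕ) [Fact r.Prime] (hrp : r ≠ p)
    (hr2 : r ≠ 2) (hrq : r ∣ q + 1) (u : ℕ) (hu : 0 < u) (hev : Even u) (hut : u ≤ r - 1)
    (hun : u ≤ n) :
    ∃ A : Matrix (Fin n) (Fin n) F, IsUM n q A ∧ A ^ r = 1 ∧ A.det = 1 ∧
      (∀ z : F, A ≠ z • (1 : Matrix (Fin n) (Fin n) F)) ∧
      finrank F ↥(fixSp (Matrix.toLin' A)) = n - u ∧
      ∀ P : F[X], Irreducible P → P ∣ cyclotomic r F →
        finrank F ↥(LinearMap.ker (aeval (Matrix.toLin' A) P)) ≤ 1 :=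
  Cfsg.Agent.Helper67.UhELT3.exists_umat_aniso_two hF r hrp hr2 hrq u hu hev hut hun

end Cfsg.Agent.Helper94.Uh
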