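import Mathlib
import Cfsg.Agent.Helper94.Uh.P_CYC
import Cfsg.Agent.Helper94.Uh.P_ISO
import Cfsg.Agent.Helper94.TiD

set_option autoImplicit false
set_option linter.unusedSectionVars false
set_option linter.unusedVariables false

/-!
# (SUFF) the arithmetic criterion gives a totally isotropic invariant `m`-space

Port of `Helper94.Ti.nd_fix / nd_cyc / exists_ti_of_parts / exists_blocks_eq /
exists_ti_inv_of_cond` (Cfsg/Agent/Helper94/TiD.lean, lines 72-166) and of
`Helper99.SpStruct.SpSetup.blockSize_dvd` with `i ↦ b = ord_r(|F|)`,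
`blockSize i ↦ ublock q r b`, "`i` even" ↦ `SD q r`.  The arithmetic lemmas
`Ti.arith_even`, `Ti.arith_odd` are reused verbatim.

`ublock_dvd`, non-self-dual case (`ublock = 2 b`): strong induction on `finrank W`: if `W ≠ ⊥` take
an irreducible `U₀ ≤ W` (`exists_irr`), totally isotropic (`ti_of_irr_nsd`), split it off with
`UIso.exists_compl_ti` (`finrank C + 2 b = finrank W`, `C` invariant nondegenerate).
-/

namespace Cfsg.Agent.Helper94.Uh

open Module Polynomial
open Cfsg.Agent.Helper59.InvChain Cfsg.Agent.Helper59.Elusive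
open Cfsg.Agent.Helper99.RDecomp

universe u v

variable {F : Type u} [Field F] [Fintype F] {V : Type v} [AddCommGroup V] [Module F V]
  [FiniteDimensional F V] {σ : F →+* F} {B : V →ₛₗ[σ] V →ₗ[F] F} {y : Module.End F V} {q r : ℕ}

theorem HSetup.nd_fix (h : HSetup B q r y) : Nd B (fixSp y) := by
  have := h.nd_inf_fix (inv_top y) (nd_top h.nondeg h.symm)
  rwa [top_inf_eq] at this

theorem HSetup.nd_cyc (h : HSetup B q r y) : Nd B (cycSp r y) := by
  have := h.nd_inf_cyc (inv_top y) (nd_top h.nondeg h.symm)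
  rwa [top_inf_eq] at this

/-- nondegenerate invariant subspaces of the cyclotomic part have dimension divisible by the
block size -/
theorem HSetup.ublock_dvd {p : ℕ} [Fact p.Prime] [CharP F p] (h : HSetup B q r y) (hr2 : r ≠ 2)
    {W : Submodule F V} (hWinv : Inv y W) (hW : Nd B W) (hWc : W ≤ cycSp r y) :
    ublock q r (orderOf ((Fintype.card F : ℕ) : ZMod r)) ∣ finrank F ↥W := by
  by_cases hsd : SD q r
  · rw [ublock_sd hsd]
    exact h.setup.dvd W hWinv hWc
  · rw [ublock_nsd hsd]
    have key : ∀ n : ℕ, ∀ W : Submodule F V, Inv y W → Nd B W → W ≤ cycSp r y →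
        finrank F ↥W = n → 2 * orderOf ((Fintype.card F : ℕ) : ZMod r) ∣ n := by
      intro n
      induction n using Nat.strong_induction_on with
      | _ n ih =>
        intro W hWinv hW hWc hn
        by_cases hne : W = ⊥
        · rw [hne, finrank_bot] at hn
          rw [← hn]
          exact dvd_zero _
        · obtain ⟨U₀, hU₀W, hU₀inv, hU₀dim⟩ := exists_irr h hWinv hWc hne
          have hti : Orth B U₀ U₀ :=
            ti_of_irr_nsd h hr2 hsd hU₀inv (hU₀W.trans hWc) hU₀dim
          obtain ⟨C, hCW, hCinv, hCnd, -, -, hdim⟩ :=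
            h.toIso.exists_compl_ti hWinv hW hU₀W hU₀inv hti
          have hbpos := h.b_pos
          have hlt : finrank F ↥C < n := by omega
          obtain ⟨t, ht⟩ := ih (finrank F ↥C) hlt C hCinv hCnd (hCW.trans hWc) rfl
          refine ⟨t + 1, ?_⟩
          rw [mul_add, mul_one, ← ht]
          omega
    exact key _ W hWinv hW hWc rfl

/-- glue a totally isotropic subspace of the fixed space and one of the cyclotomic part -/
theorem exists_ti_of_parts (h : HSetup B q r y) {a e : ℕ}
    (ha : 2 * a ≤ finrank F ↥(fixSp y))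
    {U : Submodule F V} (hUc : U ≤ cycSp r y) (hUinv : Inv y U) (hUti : Orth B U U)
    (hUdim : finrank F ↥U = e) :
    ∃ W : Submodule F V, finrank F ↥W = a + e ∧ Orth B W W ∧ Inv y W := by
  obtain ⟨A, hAle, hAti, hAdim⟩ :=
    exists_ti_sub h.symm h.sigma_sigma h.sigma_ne_id a (fixSp y) h.nd_fix ha
  have hAU : Orth B A U := h.orth_fix_cyc.mono hAle hUc
  have hdis : Disjoint A U := by
    have : Fact r.Prime := ⟨h.setup.prime⟩
    have hd : Disjoint (fixSp y) (cycSp r y) := by
      rw [disjoint_iff]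
      exact disjoint_fix_cyc r h.setup.ne_zero y
    exact hd.mono hAle hUc
  refine ⟨A ⊔ U, ?_, ?_, inv_sup (inv_of_le_fixSp hAle) hUinv⟩
  · rw [finrank_sup_of_disjoint hdis, hAdim, hUdim]
  · exact Orth.sup_left (Orth.sup_right hAti hAU)
      (Orth.sup_right (hAU.symm h.symm) hUti)

/-- dimension bookkeeping: `finrank V = finrank Fix + k' * ublock` -/
theorem exists_blocks_eq {p : ℕ} [Fact p.Prime] [CharP F p] (h : HSetup B q r y) (hr2 : r ≠ 2) :
    ∃ k' : ℕ, finrank F ↥(fixSp y) +
        k' * ublock q r (orderOf ((Fintype.card F : ℕ) : ZMod r)) = finrank F V ∧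
      finrank F ↥(cycSp r y) = k' * ublock q r (orderOf ((Fintype.card F : ℕ) : ZMod r)) ∧
      finrank F V % ublock q r (orderOf ((Fintype.card F : ℕ) : ZMod r)) ≤
        finrank F ↥(fixSp y) := by
  obtain ⟨k', hk'⟩ := h.ublock_dvd hr2 (inv_cycSp r y) h.nd_cyc le_rfl
  have htot := h.setup.total
  refine ⟨k', by rw [htot, hk', mul_comm], by rw [hk', mul_comm], ?_⟩
  have h1 : finrank F V % ublock q r (orderOf ((Fintype.card F : ℕ) : ZMod r)) =
      finrank F ↥(fixSp y) % ublock q r (orderOf ((Fintype.card F : ℕ) : ZMod r)) := by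
    rw [htot, hk', Nat.add_mul_mod_self_left]
  rw [h1]
  exact Nat.mod_le _ _

/-- (⇐) for odd `r`: the arithmetic criterion gives a totally isotropic invariant `m`-space -/
theorem exists_ti_inv_of_cond {p : ℕ} [Fact p.Prime] [CharP F p] (h : HSetup B q r y)
    (hr2 : r ≠ 2)
    (hbr : orderOf ((Fintype.card F : ℕ) : ZMod r) ∣ r - 1) (m : ℕ)
    (hm : 2 * m ≤ finrank F V)
    (h2l : 2 * (m % orderOf ((Fintype.card F : ℕ) : ZMod r)) ≤
      finrank F V % ublock q r (orderOf ((Fintype.card F : ℕ) : ZMod r)))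
    (hcond : ¬ SD q r ∨ (r - 1) / orderOf ((Fintype.card F : ℕ) : ZMod r) +
      2 * (m / orderOf ((Fintype.card F : ℕ) : ZMod r)) ≤
      finrank F V / orderOf ((Fintype.card F : ℕ) : ZMod r)) :
    ∃ W : Submodule F V, finrank F ↥W = m ∧ Orth B W W ∧ Inv y W := by
  have hipos := h.b_pos
  obtain ⟨k', hk1, hk2, hk3⟩ := exists_blocks_eq h hr2
  by_cases hsd : SD q r
  · rw [ublock_sd hsd] at hk1 hk2 hk3 h2l
    have hcond' : (r - 1) / orderOf ((Fintype.card F : ℕ) : ZMod r) + 2 * (m / orderOf ((Fintype.card F : ℕ) : ZMod r)) ≤ finrank F V / orderOf ((Fintype.card F : ℕ) : ZMod r) := by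
      rcases hcond with hc | hc
      · exact absurd hsd hc
      · exact hc
    obtain ⟨b, hb1, hb2, hb3⟩ := Cfsg.Agent.Helper94.Ti.arith_even (orderOf ((Fintype.card F : ℕ) : ZMod r)) m (finrank F V) k'
      ((r - 1) / orderOf ((Fintype.card F : ℕ) : ZMod r)) (finrank F ↥(fixSp y)) hipos hk1 hk3 h2l hcond'
    have hr1 : (r - 1) / orderOf ((Fintype.card F : ℕ) : ZMod r) * orderOf ((Fintype.card F : ℕ) : ZMod r) = r - 1 := Nat.div_mul_cancel hbr
    have hrpos := h.setup.prime.pos
    obtain ⟨U, hUc, hUinv, hUti, hUdim⟩ := exists_ti_cyc_sd h hsd hbr b (by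
      rcases hb1 with hb1 | hb1
      · exact Or.inl hb1
      · rcases Nat.eq_zero_or_pos b with h0 | hpos
        · exact Or.inl h0
        · right
          rw [hk2]
          have h1 : (r - 1) / orderOf ((Fintype.card F : ℕ) : ZMod r) + 2 * (b - 1) + 1 ≤ k' := by omega
          have h2 := Nat.mul_le_mul_right (orderOf ((Fintype.card F : ℕ) : ZMod r)) h1
          have e1 : ((r - 1) / orderOf ((Fintype.card F : ℕ) : ZMod r) + 2 * (b - 1) + 1) * orderOf ((Fintype.card F : ℕ) : ZMod r) =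
              (r - 1) / orderOf ((Fintype.card F : ℕ) : ZMod r) * orderOf ((Fintype.card F : ℕ) : ZMod r) + 2 * ((b - 1) * orderOf ((Fintype.card F : ℕ) : ZMod r)) + orderOf ((Fintype.card F : ℕ) : ZMod r) := by ring
          omega)
    obtain ⟨W, hW1, hW2, hW3⟩ := exists_ti_of_parts h (a := m - b * orderOf ((Fintype.card F : ℕ) : ZMod r)) (by omega) hUc hUinv
      hUti hUdim
    exact ⟨W, by rw [hW1]; omega, hW2, hW3⟩
  · rw [ublock_nsd hsd] at hk1 hk2 hk3 h2l
    obtain ⟨b, hb1, hb2, hb3⟩ := Cfsg.Agent.Helper94.Ti.arith_odd (orderOf ((Fintype.card F : ℕ) : ZMod r)) m (finrank F V) k'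
      (finrank F ↥(fixSp y)) hipos hk1 hk3 h2l hm
    obtain ⟨U, hUc, hUinv, hUti, hUdim⟩ := exists_ti_cyc_nsd h hr2 hsd b (by rw [hk2]; exact hb1)
    obtain ⟨W, hW1, hW2, hW3⟩ := exists_ti_of_parts h (a := m - b * orderOf ((Fintype.card F : ℕ) : ZMod r)) (by omega) hUc hUinv
      hUti hUdim
    exact ⟨W, by rw [hW1]; omega, hW2, hW3⟩

end Cfsg.Agent.Helper94.Uh
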