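import Mathlib
import Cfsg.Agent.Helper94.Uh.P_DET
import Cfsg.Agent.Helper94.Uh.P_SUFF

set_option autoImplicit false
set_option linter.unusedSectionVars false
set_option linter.unusedVariables false

/-!
# S5953: reduction from "`A ^ r` scalar" to "`A ^ r = 1`" when `r ∤ q + 1`, and the sufficiency
of the arithmetic criterion for one unitary matrix
-/

namespace Cfsg.Agent.Helper94.Uh

open Module Polynomial
open Cfsg.Agent.Helper59.InvChain Cfsg.Agent.Helper59.Elusive
open Cfsg.Agent.Helper99.RDecomp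
open Cfsg.Agent.S0837

universe u

variable {F : Type u} [Field F] [Fintype F] {q n : ℕ} {p : ℕ} [Fact p.Prime] [CharP F p]

/-- (⇐) for one unitary matrix of order dividing `r` -/
theorem good_of_cond (hF : Fintype.card F = q ^ 2) (r : ℕ) [Fact r.Prime] (hrp : r ≠ p)
    (hr2 : r ≠ 2) {A : Matrix (Fin n) (Fin n) F} (hA : IsUM n q A) (hAr : A ^ r = 1) (m : ℕ)
    (hmn : 2 * m ≤ n)
    (h2l : 2 * (m % orderOf ((Fintype.card F : ℕ) : ZMod r)) ≤
      n % ublock q r (orderOf ((Fintype.card F : ℕ) : ZMod r)))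
    (hcond : ¬ SD q r ∨ (r - 1) / orderOf ((Fintype.card F : ℕ) : ZMod r) +
      2 * (m / orderOf ((Fintype.card F : ℕ) : ZMod r)) ≤
      n / orderOf ((Fintype.card F : ℕ) : ZMod r)) : GoodU n q m A := by
  have h := hSetup_of hF r hrp hA hAr
  apply goodU_of_exists hF
  exact exists_ti_inv_of_cond h hr2 (orderOf_card_dvd (F := F) r hrp) m
    (by rw [finrank_space]; exact hmn) (by rw [finrank_space]; exact h2l)
    (by rw [finrank_space]; exact hcond)

/-- when `r ∤ q + 1` it suffices to treat the elements with `A ^ r = 1` -/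
theorem uhyp_iff_uprop (hF : Fintype.card F = q ^ 2) (r : ℕ) [Fact r.Prime]
    (hrq : ¬ r ∣ q + 1) (hn : 0 < n) {m : ℕ} : UHyp F n q m r ↔ UProp F n q m r := by
  have hr : r.Prime := Fact.out
  constructor
  · exact fun H => H.uprop
  · intro H A hA hdet hz hns
    obtain ⟨z, hz⟩ := hz
    have hzU : IsUM n q (z • (1 : Matrix (Fin n) (Fin n) F)) := by
      rw [← hz]; exact isUM_pow hA r
    have hz1 : z ^ (q + 1) = 1 := norm_one_of_isUM_smul_one hn hzU
    obtain ⟨w, hw1, hwr⟩ := exists_norm_one_root hr hrq hz1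
    have hw0 : w ≠ 0 := by
      intro h0
      rw [h0, zero_pow (Nat.succ_ne_zero q)] at hw1
      exact zero_ne_one hw1
    have hwi1 : (w⁻¹) ^ (q + 1) = 1 := by rw [inv_pow, hw1, inv_one]
    have hA' : IsUM n q (w⁻¹ • A) := isUM_smul hA hwi1
    have hA'r : (w⁻¹ • A) ^ r = 1 := by
      rw [_root_.smul_pow, hz, inv_pow, hwr, smul_smul, inv_mul_cancel₀, one_smul]
      rw [← hwr]
      exact pow_ne_zero r hw0
    have hdet' : (w⁻¹ • A).det = 1 := det_eq_one_of_pow hF hr hrq hA' hA'r
    have hns' : ∀ z' : F, w⁻¹ • A ≠ z' • (1 : Matrix (Fin n) (Fin n) F) := by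
      intro z' h'
      apply hns (w * z')
      have : A = w • (w⁻¹ • A) := by rw [smul_smul, mul_inv_cancel₀ hw0, one_smul]
      rw [this, h', smul_smul]
    exact (goodU_smul (inv_ne_zero hw0)).mp (H _ hA' hdet' hA'r hns')

end Cfsg.Agent.Helper94.Uh
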