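import Mathlib
import Cfsg.Agent.Helper94.Uh.Red
import Cfsg.Agent.Helper94.Uh.P_NEC
import Cfsg.Agent.Helper94.Uh.P_CNT
import Cfsg.Agent.Helper94.Uh.P_AR
import Cfsg.Agent.Helper94.Uh.P_ELT1
import Cfsg.Agent.Helper94.Uh.P_ELT2

set_option autoImplicit false
set_option linter.unusedSectionVars false
set_option linter.unusedVariables false

/-!
# (I2) necessity of the arithmetic criterion, `r` odd, `r ≠ p`, `r ∤ q + 1`

Port of `Helper94.Ti.cond_of_tiProp` (Cfsg/Agent/Helper94/TiI.lean, lines 80-222) with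
`i ↦ b = ord_r(|F|)`, `blockSize i ↦ c = ublock q r b`, `2 d ↦ n`, "`i` even" ↦ `SD q r`:

* test elements: `exists_umat` (max number `n / c` of blocks, fixed space of dimension `n % c`),
  `exists_umat_aniso` (`u = min ((r-1)/b) (n/b)`); since `r ∤ q + 1` they have determinant one
  (`det_eq_one_of_pow`) and are not scalar unless `= 1` (`eq_one_of_pow_of_norm` +
  `norm_one_of_isUM_smul_one`); `A ≠ 1` because the fixed space is proper;
* `hSetup_of`, `exists_of_goodU` translate `H` into the engine language;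
* step 1 (`b ≤ m`): `exists_dvd_of_dvd_card_uti` gives `e` with `n - 2m < e ≤ n`,
  `r ∣ q^e - (-1)^e` (`r ∤ q` as `r ≠ p`), `ublock_dvd_of_dvd` gives `c ∣ e`
  (rewrite `Fintype.card F = q ^ 2` in the order), so `c ≤ n` and `n % c < 2 m`; if `m < b`,
  `two_mul_le_fix_of_lt` contradicts it;
* step 2: `no_ti_of_mod`; step 3 (self-dual): `two_mul_le_fix_of_aniso` + `aniso_of_ker_le`.
-/

namespace Cfsg.Agent.Helper94.Uh

open Module Polynomial
open Cfsg.Agent.Helper59.InvChain Cfsg.Agent.Helper59.Elusive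
open Cfsg.Agent.Helper99.RDecomp
open Cfsg.Agent.S0837

universe u

variable {F : Type u} [Field F] [Fintype F] {q n : ℕ} {p : ℕ} [Fact p.Prime] [CharP F p]

private theorem I2_not_dvd_q (hF : Fintype.card F = q ^ 2) (r : ℕ) [Fact r.Prime] (hrp : r ≠ p) :
    ¬ r ∣ q := by
  intro h
  have h0 : (r : F) ≠ 0 := natCast_ne_zero_of_ne r hrp
  have h1 : r ∣ Fintype.card F := by
    rw [hF]; exact Dvd.dvd.pow h two_ne_zero
  obtain ⟨k, hk⟩ := h1
  have h2 : ((Fintype.card F : ℕ) : F) = 0 := Nat.cast_card_eq_zero F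
  rw [hk, Nat.cast_mul] at h2
  rcases mul_eq_zero.mp h2 with h3 | h3
  · exact h0 h3
  · -- `k` is a power of `p`, `r * k = p ^ j`: contradiction through coprimality
    have hr : r.Prime := Fact.out
    have hp : p.Prime := Fact.out
    obtain ⟨j, -, hj⟩ := FiniteField.card F p
    have : r ∣ p ^ (j : ℕ) := by rw [← hj, hk]; exact dvd_mul_right _ _
    have := hr.dvd_of_dvd_pow this
    exact hrp ((Nat.prime_dvd_prime_iff_eq hr hp).mp this)

private theorem I2_nonscalar (hF : Fintype.card F = q ^ 2) (r : ℕ) [Fact r.Prime]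
    (hrq : ¬ r ∣ q + 1) (hn : 0 < n) {A : Matrix (Fin n) (Fin n) F} (hA : IsUM n q A)
    (hAr : A ^ r = 1) (hfix : finrank F ↥(fixSp (Matrix.toLin' A)) < n) :
    ∀ z : F, A ≠ z • (1 : Matrix (Fin n) (Fin n) F) := by
  have hr : r.Prime := Fact.out
  intro z hz
  have hz1 : z ^ (q + 1) = 1 := by
    apply norm_one_of_isUM_smul_one (q := q) hn
    rw [← hz]; exact hA
  have hzr : z ^ r = 1 := by
    rw [hz, _root_.smul_pow, one_pow] at hAr
    have h00 := congrFun (congrFun hAr ⟨0, hn⟩) ⟨0, hn⟩
    simpa using h00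
  have hz' : z = 1 := eq_one_of_pow_of_norm hr hrq hzr hz1
  rw [hz', one_smul] at hz
  have : fixSp (Matrix.toLin' A) = ⊤ := by
    rw [eq_top_iff]
    intro v _
    rw [mem_fixSp, hz, Matrix.toLin'_one]
    rfl
  rw [this, finrank_top, finrank_space] at hfix
  exact lt_irrefl _ hfix

theorem cond_of_uprop (hF : Fintype.card F = q ^ 2) (r : ℕ) [Fact r.Prime] (hrp : r ≠ p)
    (hr2 : r ≠ 2) (hrq : ¬ r ∣ q + 1) {m : ℕ} (hm : 1 ≤ m) (hmn : 2 * m ≤ n)
    (H : UProp F n q m r)
    (hΩ : r ∣ Nat.card {W : Submodule F (Fin n → F) // Module.finrank F ↥W = m ∧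
      (∀ u ∈ W, ∀ v ∈ W, Cfsg.hermForm n F q u v = 0)}) :
    orderOf ((Fintype.card F : ℕ) : ZMod r) ≤ m ∧
      2 * (m % orderOf ((Fintype.card F : ℕ) : ZMod r)) ≤
        n % ublock q r (orderOf ((Fintype.card F : ℕ) : ZMod r)) ∧
      (¬ SD q r ∨ (r - 1) / orderOf ((Fintype.card F : ℕ) : ZMod r) +
        2 * (m / orderOf ((Fintype.card F : ℕ) : ZMod r)) ≤
        n / orderOf ((Fintype.card F : ℕ) : ZMod r)) := by
  have hr : r.Prime := Fact.out
  have hn : 0 < n := by omega
  set b := orderOf ((Fintype.card F : ℕ) : ZMod r) with hbdef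
  set c := ublock q r b with hcdef
  have hbpos : 0 < b := orderOf_card_pos r hrp
  have hcpos : 0 < c := ublock_pos hbpos
  have hbr : b ∣ r - 1 := orderOf_card_dvd (F := F) r hrp
  have hcb : c ≤ 2 * b ∧ b ≤ c := by
    by_cases hsd : SD q r
    · rw [hcdef, ublock_sd hsd]; omega
    · rw [hcdef, ublock_nsd hsd]; omega
  -- the test element with as many blocks as possible
  have hmax : c ≤ n → ∃ A : Matrix (Fin n) (Fin n) F, IsUM n q A ∧ A ^ r = 1 ∧
      finrank F ↥(fixSp (Matrix.toLin' A)) = n % c := by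
    intro hcn
    obtain ⟨A, hA, hAr, hfix⟩ := exists_umat (F := F) (n := n) hF r hrp hr2 (n / c)
      (Nat.div_pos hcn hcpos) (Nat.div_mul_le_self _ _)
    rw [← hbdef, ← hcdef, Cfsg.Agent.Helper99.RMain.sub_div_mul] at hfix
    exact ⟨A, hA, hAr, hfix⟩
  -- consequences of `H` for a test element
  have huse : ∀ A : Matrix (Fin n) (Fin n) F, IsUM n q A → A ^ r = 1 →
      finrank F ↥(fixSp (Matrix.toLin' A)) < n →
      ∃ W : Submodule F (Fin n → F), finrank F ↥W = m ∧ Orth (hB hF n) W W ∧
        Inv (Matrix.toLin' A) W ∧ HSetup (hB hF n) q r (Matrix.toLin' A) := by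
    intro A hA hAr hfix
    have hdet : A.det = 1 := det_eq_one_of_pow hF hr hrq hA hAr
    have hns := I2_nonscalar hF r hrq hn hA hAr hfix
    obtain ⟨W, hW1, hW2, hW3⟩ := exists_of_goodU hF (H A hA hdet hAr hns)
    exact ⟨W, hW1, hW2, hW3, hSetup_of hF r hrp hA hAr⟩
  -- step 1
  have h1 : b ≤ m := by
    by_contra hcon
    push Not at hcon
    obtain ⟨e, hen, hele, hdvd⟩ := exists_dvd_of_dvd_card_uti hF m hmn r hr
      (I2_not_dvd_q hF r hrp) hΩ
    have hce : c ∣ e := by
      have := ublock_dvd_of_dvd hr hr2 (I2_not_dvd_q hF r hrp) hdvd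
      rw [← hF] at this
      exact this
    have hepos : 0 < e := by omega
    have hcn : c ≤ n := (Nat.le_of_dvd hepos hce).trans hele
    obtain ⟨A, hA, hAr, hfix⟩ := hmax hcn
    have hmodlt : n % c < c := Nat.mod_lt _ hcpos
    obtain ⟨W, hW1, hW2, hW3, hset⟩ := huse A hA hAr (by rw [hfix]; omega)
    have h3 := two_mul_le_fix_of_lt hset hW3 hW2 (by rw [hW1]; exact hcon)
    rw [hW1, hfix] at h3
    obtain ⟨t, ht⟩ := hce
    have htle : t ≤ n / c := by
      rw [Nat.le_div_iff_mul_le hcpos, mul_comm, ← ht]; exact hele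
    have hdm : c * (n / c) + n % c = n := Nat.div_add_mod n c
    have hmul : c * t ≤ c * (n / c) := Nat.mul_le_mul_left c htle
    omega
  have hcn : c ≤ n := by omega
  refine ⟨h1, ?_, ?_⟩
  · -- step 2
    by_contra hcon
    push Not at hcon
    obtain ⟨A, hA, hAr, hfix⟩ := hmax hcn
    have hmodlt : n % c < c := Nat.mod_lt _ hcpos
    obtain ⟨W, hW1, hW2, hW3, hset⟩ := huse A hA hAr (by rw [hfix]; omega)
    exact no_ti_of_mod hset hW3 hW2 (by rw [hW1, hfix]; exact hcon)
  · -- step 3
    by_cases hsd : SD q r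
    · right
      by_contra hcon
      push Not at hcon
      set t := (r - 1) / b with ht
      set n' := n / b with hn'
      have hti : t * b = r - 1 := Nat.div_mul_cancel hbr
      have hr3 : 2 ≤ r := hr.two_le
      have htpos : 0 < t := by
        rcases Nat.eq_zero_or_pos t with h0 | h0
        · rw [h0, zero_mul] at hti; omega
        · exact h0
      have hn'b : n' * b ≤ n := Nat.div_mul_le_self _ _
      have hn'pos : 0 < n' := Nat.div_pos (by omega) hbpos
      set u := min t n' with hu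
      have hupos : 0 < u := lt_min htpos hn'pos
      have hut : u * b ≤ r - 1 := by
        rw [← hti]; exact Nat.mul_le_mul_right b (min_le_left _ _)
      have hud : u * b ≤ n := (Nat.mul_le_mul_right b (min_le_right _ _)).trans hn'b
      obtain ⟨A, hA, hAr, hfix0, hker⟩ := exists_umat_aniso (F := F) (n := n) hF r hrp hr2 hsd u
        hupos hut hud
      have hfix : finrank F ↥(fixSp (Matrix.toLin' A)) = n - u * b := hfix0
      have hub : 0 < u * b := Nat.mul_pos hupos hbpos
      obtain ⟨W, hW1, hW2, hW3, hset⟩ := huse A hA hAr (by rw [hfix]; omega)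
      have h3 := two_mul_le_fix_of_aniso hset (aniso_of_ker_le hset hsd hker) hW3 hW2
      rw [hW1, hfix] at h3
      -- arithmetic
      set m' := m / b with hm'
      have hmdiv : b * m' + m % b = m := Nat.div_add_mod m b
      have hddiv : b * n' + n % b = n := Nat.div_add_mod n b
      have hkk : n % b < b := Nat.mod_lt _ hbpos
      rcases le_total t n' with hle | hle
      · have hueq : u = t := min_eq_left hle
        rw [hueq] at h3
        have h4 : (2 * m' + t) * b < (n' + 1) * b := by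
          have e1 : (2 * m' + t) * b = 2 * (b * m') + t * b := by ring
          have e2 : (n' + 1) * b = b * n' + b := by ring
          omega
        have h5 : 2 * m' + t < n' + 1 := lt_of_mul_lt_mul_right h4 (Nat.zero_le b)
        omega
      · have hueq : u = n' := min_eq_right hle
        rw [hueq] at h3
        have e2 : n' * b = b * n' := mul_comm _ _
        omega
    · left
      exact hsd

end Cfsg.Agent.Helper94.Uh
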