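import Mathlib
import Cfsg.Agent.Helper94.Uh.Red
import Cfsg.Agent.Helper94.Uh.P_NEC
import Cfsg.Agent.Helper94.Uh.P_AR
import Cfsg.Agent.Helper94.Uh.P_ELT3

set_option autoImplicit false
set_option linter.unusedSectionVars false
set_option linter.unusedVariables false

/-!
# (I3) the case `r ∣ q + 1`: necessity of `r - 1 + 2 m ≤ n`

Suppose `n < r - 1 + 2 m`.  Let `u := r - 1` if `r - 1 ≤ n`, else `u := n` or `n - 1`, whichever
is even (`u ≥ 2` as `n ≥ 3`); `exists_umat_aniso_two` gives a unitary matrix `A` of determinant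
one, not scalar, `A ^ r = 1`, with fixed space of dimension `n - u < 2 m` and a multiplicity-free
cyclotomic part.  `H` gives a totally isotropic invariant `m`-space; `hSetup_of`, `two_case`
(`b = 1`, `SD q r`; rewrite `Fintype.card F = q ^ 2` in the order), `aniso_of_ker_le`,
`two_mul_le_fix_of_aniso` give `2 m ≤ n - u`, a contradiction.
-/

namespace Cfsg.Agent.Helper94.Uh

open Module Polynomial
open Cfsg.Agent.Helper59.InvChain Cfsg.Agent.Helper59.Elusive
open Cfsg.Agent.Helper99.RDecomp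
open Cfsg.Agent.S0837

universe u

variable {F : Type u} [Field F] [Fintype F] {q n : ℕ} {p : ℕ} [Fact p.Prime] [CharP F p]

theorem cond_two_of_uprop (hF : Fintype.card F = q ^ 2) (r : ℕ) [Fact r.Prime] (hrp : r ≠ p)
    (hr2 : r ≠ 2) (hrq : r ∣ q + 1) (hn : 3 ≤ n) {m : ℕ} (hm : 1 ≤ m) (hmn : 2 * m ≤ n)
    (H : UProp F n q m r) : r - 1 + 2 * m ≤ n := by
  by_contra hcon
  have hr : r.Prime := Fact.out
  have hr3 : 3 ≤ r := by
    have := hr.two_le
    omega
  have hrodd : Odd r := hr.odd_of_ne_two hr2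
  have hev1 : Even (r - 1) := by
    obtain ⟨k, hk⟩ := hrodd
    exact ⟨k, by omega⟩
  -- the choice of `u`
  obtain ⟨u, hu, hev, hut, hun, hfix⟩ : ∃ u : ℕ, 0 < u ∧ Even u ∧ u ≤ r - 1 ∧ u ≤ n ∧
      n - u < 2 * m := by
    by_cases hrn : r - 1 ≤ n
    · exact ⟨r - 1, by omega, hev1, le_refl _, hrn, by omega⟩
    · rcases Nat.even_or_odd n with he | ho
      · exact ⟨n, by omega, he, by omega, le_refl _, by omega⟩
      · obtain ⟨k, hk⟩ := ho
        exact ⟨n - 1, by omega, ⟨k, by omega⟩, by omega, by omega, by omega⟩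
  obtain ⟨A, hA, hAr, hdet, hns, hfixdim, hker⟩ :=
    exists_umat_aniso_two (p := p) hF r hrp hr2 hrq u hu hev hut hun
  obtain ⟨W, hWdim, hWti, hWinv⟩ := exists_of_goodU hF (H A hA hdet hAr hns)
  have hS := hSetup_of hF r hrp hA hAr
  obtain ⟨hb1, hsd⟩ := two_case hr hr2 hrq
  have hord : orderOf ((Fintype.card F : ℕ) : ZMod r) = 1 := by
    rw [hF]
    exact hb1
  have han := aniso_of_ker_le hS hsd (fun P hP hPd => by rw [hord]; exact hker P hP hPd)
  have h2 := two_mul_le_fix_of_aniso hS han hWinv hWti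
  rw [hWdim, hfixdim] at h2
  omega

end Cfsg.Agent.Helper94.Uh
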