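import Mathlib
import Cfsg.Agent.Helper94.Uh.Conc

set_option autoImplicit false
set_option linter.unusedSectionVars false
set_option linter.unusedVariables false

/-!
# (R2C) `r = 2`: a unitary matrix with `A ^ 2 = w ^ 2 • 1`, `w` of norm `-1`

The eigenspaces `E₊ = ker (A - w)`, `E₋ = ker (A + w)` are totally isotropic: for `u, v ∈ E₊`,
`h(u, v) = h(A u, A v) = w * w ^ q * h(u, v) = - h(u, v)`, so `h(u, v) = 0` as `2 ≠ 0`
(`hermForm n F q u v = ∑ i, u i * v i ^ q`; `(c • v) i ^ q = c ^ q * v i ^ q`).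
`V = E₊ + E₋`: `v = (2 w)⁻¹ • ((A v + w • v) - (A v - w • v))`, `w ≠ 0`; so
`n ≤ dim E₊ + dim E₋` and one of them has dimension `≥ m` (`2 m ≤ n`); it contains a subspace of
dimension `m` (e.g. `Submodule.exists_finrank_eq…`/span of part of a basis), which is invariant
(`A v = ± w • v`) and totally isotropic.
-/

namespace Cfsg.Agent.Helper94.Uh

open Module Polynomial

universe u

variable {F : Type u} [Field F] [Fintype F] {q n : ℕ}

-- proof by helper22. NOTE: the extra first argument `hF : Fintype.card F = q ^ 2` (with `h2` it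
-- gives `Odd q`) is needed: for even `q` the eigenspace `ker (A + w)` need not be totally isotropic
-- (`(-w) ^ (q + 1) = (-1) ^ (q + 1) * w ^ (q + 1)`).

/-- a subspace of prescribed dimension inside a subspace -/
theorem r2c_exists_le_finrank_eq {V : Type*} [AddCommGroup V] [Module F V] [FiniteDimensional F V]
    (X : Submodule F V) {e : ℕ} (he : e ≤ finrank F ↥X) :
    ∃ U : Submodule F V, U ≤ X ∧ finrank F ↥U = e := by
  obtain ⟨f, hf⟩ := exists_linearIndependent_of_le_finrank (R := F) (M := ↥X) he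
  refine ⟨(Submodule.span F (Set.range f)).map X.subtype, ?_, ?_⟩
  · rintro _ ⟨x, -, rfl⟩
    exact x.2
  · rw [Submodule.finrank_map_subtype_eq, finrank_span_eq_card hf, Fintype.card_fin]

theorem r2c_hermForm_smul_smul (c : F) (u v : Fin n → F) :
    Cfsg.hermForm n F q (c • u) (c • v) = c ^ (q + 1) * Cfsg.hermForm n F q u v := by
  unfold Cfsg.hermForm
  rw [Finset.mul_sum]
  apply Finset.sum_congr rfl
  intro i _
  simp only [Pi.smul_apply, smul_eq_mul]
  ring

/-- an eigenspace of a unitary matrix for an eigenvalue of norm `-1` is totally isotropic -/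
theorem r2c_eigenspace_ti (h2 : (2 : F) ≠ 0) {A : Matrix (Fin n) (Fin n) F} (hA : IsUM n q A) {c : F}
    (hc : c ^ (q + 1) = -1) (u v : Fin n → F) (hu : A.mulVec u = c • u) (hv : A.mulVec v = c • v) :
    Cfsg.hermForm n F q u v = 0 := by
  have h1 := hA u v
  rw [hu, hv, r2c_hermForm_smul_smul, hc] at h1
  have h3 : (2 : F) * Cfsg.hermForm n F q u v = 0 := by
    have : Cfsg.hermForm n F q u v + Cfsg.hermForm n F q u v = 0 := by
      nth_rewrite 1 [← h1]
      ring
    rw [two_mul]; exact this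
  rcases mul_eq_zero.mp h3 with h | h
  · exact absurd h h2
  · exact h

theorem r2c_odd_of_card (hF : Fintype.card F = q ^ 2) (h2 : (2 : F) ≠ 0) : Odd q := by
  have h1 : ringChar F ≠ 2 := by
    intro h
    apply h2
    have := CharP.cast_eq_zero F (ringChar F)
    rw [h] at this
    exact_mod_cast this
  have h3 : ¬ Fintype.card F % 2 = 0 := fun h => h1 (FiniteField.even_card_iff_char_two.mpr h)
  rw [hF] at h3
  rcases Nat.even_or_odd q with he | ho
  · exfalso
    apply h3
    obtain ⟨k, hk⟩ := he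
    rw [hk]
    ring_nf
    omega
  · exact ho

theorem good_of_anti (hF : Fintype.card F = q ^ 2) (h2 : (2 : F) ≠ 0)
    {A : Matrix (Fin n) (Fin n) F} (hA : IsUM n q A) {w : F}
    (hw : w ^ (q + 1) = -1) (hAw : A ^ 2 = w ^ 2 • (1 : Matrix (Fin n) (Fin n) F)) {m : ℕ}
    (hmn : 2 * m ≤ n) : GoodU n q m A := by
  have hq : Odd q := r2c_odd_of_card hF h2
  have hw0 : w ≠ 0 := by
    intro h
    rw [h, zero_pow (Nat.succ_ne_zero q)] at hw
    exact (neg_ne_zero.mpr one_ne_zero) hw.symm
  have hnw : (-w) ^ (q + 1) = -1 := by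
    rw [neg_pow, hw, Even.neg_one_pow (by obtain ⟨k, hk⟩ := hq; exact ⟨k + 1, by omega⟩), one_mul]
  -- the two eigenspaces
  set f := Matrix.toLin' A with hf
  set Ep : Submodule F (Fin n → F) := LinearMap.ker (f - w • (1 : Module.End F (Fin n → F)))
    with hEp
  set Em : Submodule F (Fin n → F) := LinearMap.ker (f + w • (1 : Module.End F (Fin n → F)))
    with hEm
  have memp : ∀ v, v ∈ Ep ↔ A.mulVec v = w • v := by
    intro v
    rw [hEp, LinearMap.mem_ker, LinearMap.sub_apply, sub_eq_zero, hf, Matrix.toLin'_apply]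
    rfl
  have memm : ∀ v, v ∈ Em ↔ A.mulVec v = (-w) • v := by
    intro v
    rw [hEm, LinearMap.mem_ker, LinearMap.add_apply, add_eq_zero_iff_eq_neg, hf,
      Matrix.toLin'_apply, neg_smul]
    rfl
  have hAA : ∀ v : Fin n → F, A.mulVec (A.mulVec v) = (w ^ 2) • v := by
    intro v
    rw [Matrix.mulVec_mulVec, ← pow_two, hAw, Matrix.smul_mulVec, Matrix.one_mulVec]
  -- they span the space
  have hsup : Ep ⊔ Em = ⊤ := by
    rw [eq_top_iff]
    intro v _
    have h2w : (2 * w) ≠ 0 := mul_ne_zero h2 hw0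
    have hv : v = (2 * w)⁻¹ • (A.mulVec v + w • v) + (-(2 * w)⁻¹) • (A.mulVec v - w • v) := by
      have : (2 * w)⁻¹ • (A.mulVec v + w • v) + (-(2 * w)⁻¹) • (A.mulVec v - w • v)
          = ((2 * w)⁻¹ * (2 * w)) • v := by
        module
      rw [this, inv_mul_cancel₀ h2w, one_smul]
    rw [hv]
    apply Submodule.add_mem_sup
    · apply Submodule.smul_mem
      rw [memp, Matrix.mulVec_add, Matrix.mulVec_smul, hAA, smul_add, smul_smul, pow_two]
      abel
    · apply Submodule.smul_mem
      rw [memm, Matrix.mulVec_sub, Matrix.mulVec_smul, hAA, smul_sub, smul_smul, pow_two]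
      simp only [neg_smul, neg_mul, neg_neg]
      abel
  -- one of them is big
  have hdim : n ≤ finrank F ↥Ep + finrank F ↥Em := by
    have h1 := Submodule.finrank_add_le_finrank_add_finrank Ep Em
    rw [hsup, finrank_top, finrank_space] at h1
    exact h1
  have key : ∀ (c : F) (E : Submodule F (Fin n → F)), c ^ (q + 1) = -1 →
      (∀ v, v ∈ E ↔ A.mulVec v = c • v) → m ≤ finrank F ↥E → GoodU n q m A := by
    intro c E hc hmem hm
    obtain ⟨W, hWE, hWm⟩ := r2c_exists_le_finrank_eq E hm
    refine ⟨W, hWm, ?_, ?_⟩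
    · intro u hu v hv
      exact r2c_eigenspace_ti h2 hA hc u v ((hmem u).mp (hWE hu)) ((hmem v).mp (hWE hv))
    · rintro _ ⟨u, hu, rfl⟩
      rw [Matrix.toLin'_apply, (hmem u).mp (hWE hu)]
      exact W.smul_mem c hu
  by_cases hp : m ≤ finrank F ↥Ep
  · exact key w Ep hw memp hp
  · exact key (-w) Em hnw memm (by omega)

end Cfsg.Agent.Helper94.Uh
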