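import Mathlib
import Cfsg.Agent.Helper94.Uh.Conc

set_option autoImplicit false
set_option linter.unusedSectionVars false
set_option linter.unusedVariables false

/-!
# (R2D) the determinant of an involution in odd characteristic is `(-1) ^ dim ker (A + 1)`

`cycSp 2 f = ker (aeval f (cyclotomic 2 F)) = ker (f + 1)` (`Polynomial.cyclotomic_two`).
Routes: (a) `V = ker (f - 1) ⊕ ker (f + 1)` (`Helper59.Elusive.sup_fix_cyc`, `disjoint_fix_cyc`
with `r = 2`), take bases of both, the matrix of `f` in the union basis is diagonal with entries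
`1` and `-1` (`LinearMap.det_toMatrix`, `Matrix.det_diagonal`), or
(b) the characteristic polynomial: `Helper99.SpElt.finrank_fixSp_eq_rootMultiplicity`
(Cfsg/Agent/Helper99/SpElt.lean) for `A` and for `-A`, the minimal polynomial divides
`(X - 1) (X + 1)`, so `charpoly = (X - 1) ^ a * (X + 1) ^ b` and
`det = (-1) ^ n * charpoly.eval 0 = (-1) ^ (n + a) = (-1) ^ b`, or
(c) induction on the dimension.
-/

namespace Cfsg.Agent.Helper94.Uh

open Module Polynomial
open Cfsg.Agent.Helper59.InvChain Cfsg.Agent.Helper59.Elusive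

universe u

variable {F : Type u} [Field F] {n : ℕ}

-- proof by helper22 (route (a))

theorem mem_cycSp_two {V : Type*} [AddCommGroup V] [Module F V] {f : V →ₗ[F] V} {v : V} :
    v ∈ cycSp 2 f ↔ f v = -v := by
  simp [cycSp, Polynomial.cyclotomic_two, add_eq_zero_iff_eq_neg]

/-- the determinant of an involution of a finite dimensional space -/
theorem det_of_involution (h2 : (2 : F) ≠ 0) {V : Type*} [AddCommGroup V] [Module F V]
    [FiniteDimensional F V] (f : V →ₗ[F] V) (hf : f ^ 2 = 1) :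
    LinearMap.det f = (-1) ^ finrank F ↥(cycSp 2 f) := by
  have hr : ((2 : ℕ) : F) ≠ 0 := by exact_mod_cast h2
  have hcompl : IsCompl (fixSp f) (cycSp 2 f) :=
    ⟨disjoint_iff.mpr (disjoint_fix_cyc 2 hr f), codisjoint_iff.mpr (sup_fix_cyc 2 hr f hf)⟩
  set e := Submodule.prodEquivOfIsCompl (fixSp f) (cycSp 2 f) hcompl with he
  have hconj : f = (e : (↥(fixSp f) × ↥(cycSp 2 f)) →ₗ[F] V) ∘ₗ
      (LinearMap.prodMap (LinearMap.id : ↥(fixSp f) →ₗ[F] ↥(fixSp f))
        ((-1 : F) • (LinearMap.id : ↥(cycSp 2 f) →ₗ[F] ↥(cycSp 2 f)))) ∘ₗ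
      (e.symm : V →ₗ[F] (↥(fixSp f) × ↥(cycSp 2 f))) := by
    apply LinearMap.ext
    intro v
    obtain ⟨⟨a, b⟩, rfl⟩ := e.surjective v
    simp only [LinearMap.coe_comp, LinearEquiv.coe_coe, Function.comp_apply,
      LinearEquiv.symm_apply_apply, LinearMap.prodMap_apply, LinearMap.id_coe, id_eq,
      LinearMap.smul_apply]
    rw [he, Submodule.coe_prodEquivOfIsCompl', Submodule.coe_prodEquivOfIsCompl']
    simp only [map_add, neg_smul, one_smul, Submodule.coe_neg]
    rw [mem_fixSp.mp a.2, mem_cycSp_two.mp b.2]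
  conv_lhs => rw [hconj]
  rw [LinearMap.det_conj, LinearMap.det_prodMap, LinearMap.det_id, one_mul,
    LinearMap.det_smul, LinearMap.det_id, mul_one]

theorem det_of_sq_eq_one (h2 : (2 : F) ≠ 0) {A : Matrix (Fin n) (Fin n) F} (hA : A ^ 2 = 1) :
    A.det = (-1) ^ finrank F ↥(cycSp 2 (Matrix.toLin' A)) := by
  rw [← LinearMap.det_toLin' A]
  apply det_of_involution h2
  rw [pow_two, Module.End.mul_eq_comp, ← Matrix.toLin'_mul, ← pow_two, hA, Matrix.toLin'_one]
  rfl

end Cfsg.Agent.Helper94.Uh
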