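import Mathlib
import Cfsg.Agent.Helper94.Uh.Conc

set_option autoImplicit false
set_option linter.unusedSectionVars false
set_option linter.unusedVariables false

/-!
# (R2E) `r = 2`, `p` odd: square roots of norm-one elements; the reflection `diag(-1, 1, …, 1)`

* `exists_sqrt_norm`: `z ^ (q² / 2) = (z ^ (q + 1)) ^ ((q - 1) / 2) = 1` (`q` odd since
  `(2 : F) ≠ 0` and `|F| = q²`), so `z` is a square (`FiniteField.isSquare_iff`, or directly with
  a generator `ω` of `Fˣ`: `z = ω ^ t`, `(q - 1) ∣ t`, `w := ω ^ (t / 2)`); then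
  `(w ^ (q + 1)) ^ 2 = z ^ (q + 1) = 1`, so `w ^ (q + 1) = ± 1`.
* `exists_refl`: `D := Matrix.diagonal (fun i => if i = ⟨0, _⟩ then -1 else 1)`; the form is
  preserved as `(-1) * (-1) ^ q = 1` (`q` odd or char 2; or simply `(-1)^(q+1) = 1` needs `q` odd:
  `|F| = q²` odd); `det D = -1`; fixed space `= {v | v 0 = 0}` of dimension `n - 1`
  (e.g. the kernel of the projection to coordinate `0`, which is surjective); not scalar as
  `n ≥ 2` and `-1 ≠ 1`.
-/

namespace Cfsg.Agent.Helper94.Uh

open Module Polynomial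
open Cfsg.Agent.Helper59.InvChain Cfsg.Agent.Helper59.Elusive

universe u

variable {F : Type u} [Field F] [Fintype F] {q n : ℕ}

theorem q_odd_R2E (hF : Fintype.card F = q ^ 2) (h2 : (2 : F) ≠ 0) : Odd q := by
  have hch : ringChar F ≠ 2 := by
    intro h
    apply h2
    have := ringChar.Nat.cast_ringChar (R := F)
    rw [h] at this
    exact_mod_cast this
  have hodd : Odd (Fintype.card F) := by
    rw [Nat.odd_iff]
    exact FiniteField.odd_card_of_char_ne_two hch
  rw [hF] at hodd
  exact Nat.Odd.of_mul_right (by rw [← sq]; exact hodd)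

theorem exists_sqrt_norm (hF : Fintype.card F = q ^ 2) (h2 : (2 : F) ≠ 0) {z : F}
    (hz : z ^ (q + 1) = 1) : ∃ w : F, w ^ 2 = z ∧ (w ^ (q + 1) = 1 ∨ w ^ (q + 1) = -1) := by
  have hch : ringChar F ≠ 2 := by
    intro h
    apply h2
    have := ringChar.Nat.cast_ringChar (R := F)
    rw [h] at this
    exact_mod_cast this
  obtain ⟨k, hk⟩ := q_odd_R2E hF h2
  have hz0 : z ≠ 0 := by
    rintro rfl
    rw [zero_pow (by omega)] at hz
    exact zero_ne_one hz
  have hsq : IsSquare z := by
    rw [FiniteField.isSquare_iff hch hz0, hF]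
    have : q ^ 2 / 2 = (q + 1) * k := by
      subst hk
      have : (2 * k + 1) ^ 2 = 2 * ((2 * k + 1 + 1) * k) + 1 := by ring
      rw [this]; omega
    rw [this, pow_mul, hz, one_pow]
  obtain ⟨w, hw⟩ := hsq
  refine ⟨w, by rw [sq, hw], ?_⟩
  have : w ^ (q + 1) * w ^ (q + 1) = 1 := by
    rw [← mul_pow, ← hw, hz]
  exact mul_self_eq_one_iff.mp this

theorem exists_refl (hF : Fintype.card F = q ^ 2) (h2 : (2 : F) ≠ 0) (hn : 2 ≤ n) :
    ∃ D : Matrix (Fin n) (Fin n) F, IsUM n q D ∧ D ^ 2 = 1 ∧ D.det = -1 ∧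
      finrank F ↥(fixSp (Matrix.toLin' D)) = n - 1 ∧
      ∀ z : F, D ≠ z • (1 : Matrix (Fin n) (Fin n) F) := by
  obtain ⟨k, hk⟩ := q_odd_R2E hF h2
  let i0 : Fin n := ⟨0, by omega⟩
  let i1 : Fin n := ⟨1, by omega⟩
  have h01 : i1 ≠ i0 := by
    intro h
    have := congrArg Fin.val h
    simp [i0, i1] at this
  let dd : Fin n → F := fun i => if i = i0 then -1 else 1
  have hdd : ∀ i, dd i * dd i = 1 := by
    intro i
    by_cases h : i = i0 <;> simp [dd, h]
  have hddq : ∀ i, dd i * dd i ^ q = 1 := by
    intro i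
    by_cases h : i = i0
    · simp only [dd, h, if_true]
      rw [← pow_succ', hk, show 2 * k + 1 + 1 = 2 * (k + 1) by ring, pow_mul]
      simp
    · simp [dd, h]
  refine ⟨Matrix.diagonal dd, ?_, ?_, ?_, ?_, ?_⟩
  · intro u v
    unfold Cfsg.hermForm
    apply Finset.sum_congr rfl
    intro i _
    rw [Matrix.mulVec_diagonal, Matrix.mulVec_diagonal, mul_pow]
    calc dd i * u i * (dd i ^ q * v i ^ q) = (dd i * dd i ^ q) * (u i * v i ^ q) := by ring
      _ = u i * v i ^ q := by rw [hddq, one_mul]
  · rw [sq, Matrix.diagonal_mul_diagonal]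
    rw [← Matrix.diagonal_one]
    congr 1
    funext i
    exact hdd i
  · rw [Matrix.det_diagonal, Finset.prod_eq_single i0]
    · simp [dd]
    · intro b _ hb
      simp [dd, hb]
    · intro h; exact absurd (Finset.mem_univ _) h
  · have hfix : fixSp (Matrix.toLin' (Matrix.diagonal dd)) =
        LinearMap.ker (LinearMap.proj i0 : (Fin n → F) →ₗ[F] F) := by
      ext v
      rw [mem_fixSp, LinearMap.mem_ker, LinearMap.proj_apply, Matrix.toLin'_apply]
      constructor
      · intro h
        have := congrFun h i0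
        rw [Matrix.mulVec_diagonal] at this
        simp only [dd, if_true] at this
        have h2v : (2 : F) * v i0 = 0 := by
          have : v i0 + v i0 = 0 := by
            nth_rewrite 1 [← this]; ring
          rw [two_mul]; exact this
        rcases mul_eq_zero.mp h2v with h | h
        · exact absurd h h2
        · exact h
      · intro h
        funext i
        rw [Matrix.mulVec_diagonal]
        by_cases hi : i = i0
        · subst hi; rw [h, mul_zero]
        · simp [dd, hi]
    rw [hfix]
    have hsurj : Function.Surjective (LinearMap.proj i0 : (Fin n → F) →ₗ[F] F) := by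
      intro c
      exact ⟨fun _ => c, rfl⟩
    have h1 := LinearMap.finrank_range_add_finrank_ker (LinearMap.proj i0 : (Fin n → F) →ₗ[F] F)
    rw [LinearMap.range_eq_top.mpr hsurj, finrank_top, Module.finrank_self, Module.finrank_fin_fun] at h1
    omega
  · intro z hz
    have e0 := congrFun (congrFun hz i0) i0
    have e1 := congrFun (congrFun hz i1) i1
    simp only [Matrix.diagonal_apply_eq, Matrix.smul_apply, Matrix.one_apply_eq, smul_eq_mul,
      mul_one, dd, if_true, if_neg h01] at e0 e1
    apply h2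
    have : (1 : F) = -1 := e1.trans e0.symm
    calc (2 : F) = 1 + 1 := by norm_num
      _ = -1 + 1 := by rw [← this]
      _ = 0 := by ring

end Cfsg.Agent.Helper94.Uh
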