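import Mathlib
import Cfsg.Agent.Helper94.Uh.Conc
import Cfsg.Agent.Helper49.UNdV3
import Cfsg.Agent.Helper49.UNdV5

set_option autoImplicit false
set_option linter.unusedSectionVars false
set_option linter.unusedVariables false
set_option linter.style.haveILetI false

/-!
# (Z1A) `r ∣ q + 1`, `z` of norm one which is not the `r`-th power of a norm-one element:
`X ^ r - C z` is irreducible over `F` (`|F| = q²`); valuations

* `nonpower_of_norm_nonpower`: if `w ^ r = z` with `w ∈ F` then `N := w ^ (q + 1)` satisfies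
  `N ^ r = 1` and `N ^ (q - 1) = 1`; `r ∤ q - 1` (`r` odd, `r ∣ q + 1`), so `N = 1`.
* `irreducible_of_nonpower`: `X_pow_sub_C_irreducible_of_prime`.
* `hp_of_irreducible`: `Helper59.InvChain.HP`.
* `padic_le_of_nonpower`: `Fˣ` is cyclic of order `q² - 1` with generator `ω`, `z = ω ^ t`;
  if `v_r(k) < v_r(q + 1)` then `gcd(k, q + 1) ∣ (q + 1) / r`, so `z ^ ((q + 1) / r) = 1`, so
  `(q - 1) r ∣ t`, `t = (q - 1) r s`, and `w := ω ^ ((q - 1) s)` has norm one and `w ^ r = z`.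

(proved by helper97, board #8218 (Z1A); the two cyclic-group facts are helper49's
`UNdV3.exists_unitary_root` and `UNdV5.exists_bad_z_r`)
-/

namespace Cfsg.Agent.Helper94.Uh

open Module Polynomial
open Cfsg.Agent.Helper59.InvChain

universe u

variable {F : Type u} [Field F] [Fintype F] {q : ℕ}

theorem nonpower_of_norm_nonpower (hF : Fintype.card F = q ^ 2) {r : ℕ} (hr : r.Prime)
    (hr2 : r ≠ 2) (hrq : r ∣ q + 1) {z : F} (hz1 : z ^ (q + 1) = 1)
    (hz : ∀ w : F, w ^ (q + 1) = 1 → w ^ r ≠ z) : ∀ w : F, w ^ r ≠ z := by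
  intro w hw
  have hq : 2 ≤ q := Cfsg.Agent.Helper49.UNdCyc.two_le_of_card hF
  have hz0 : z ≠ 0 := by
    rintro rfl
    rw [zero_pow (Nat.succ_ne_zero q)] at hz1
    exact zero_ne_one hz1
  have hw0 : w ≠ 0 := by
    rintro rfl
    rw [zero_pow hr.ne_zero] at hw
    exact hz0 hw.symm
  -- the norm of `w`
  have hNr : (w ^ (q + 1)) ^ r = 1 := by
    rw [← pow_mul, mul_comm, pow_mul, hw, hz1]
  have hNq : (w ^ (q + 1)) ^ (q - 1) = 1 := by
    rw [← pow_mul]
    have : (q + 1) * (q - 1) = Fintype.card F - 1 := by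
      rw [hF]
      obtain ⟨k, rfl⟩ : ∃ k, q = k + 1 := ⟨q - 1, by omega⟩
      have : (k + 1) ^ 2 = (k + 1 + 1) * (k + 1 - 1) + 1 := by
        simp only [Nat.add_sub_cancel]; ring
      omega
    rw [this]
    exact FiniteField.pow_card_sub_one_eq_one w hw0
  have hcop : Nat.Coprime r (q - 1) := by
    rw [Nat.Prime.coprime_iff_not_dvd hr]
    intro hd
    have h2 : r ∣ 2 := by
      have : q + 1 = (q - 1) + 2 := by omega
      rw [this] at hrq
      exact (Nat.dvd_add_right hd).1 hrq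
    exact hr2 ((Nat.prime_dvd_prime_iff_eq hr Nat.prime_two).1 h2)
  have hN : w ^ (q + 1) = 1 := by
    have := pow_gcd_eq_one.2 ⟨hNr, hNq⟩
    rwa [hcop, pow_one] at this
  exact hz w hN hw

theorem irreducible_of_nonpower (hF : Fintype.card F = q ^ 2) {r : ℕ} (hr : r.Prime)
    (hr2 : r ≠ 2) (hrq : r ∣ q + 1) {z : F} (hz1 : z ^ (q + 1) = 1)
    (hz : ∀ w : F, w ^ (q + 1) = 1 → w ^ r ≠ z) : Irreducible (X ^ r - C z : F[X]) :=
  X_pow_sub_C_irreducible_of_prime hr (nonpower_of_norm_nonpower hF hr hr2 hrq hz1 hz)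

theorem hp_of_irreducible {r : ℕ} (hr : 0 < r) {z : F}
    (hirr : Irreducible (X ^ r - C z : F[X])) : HP (X ^ r - C z : F[X]) r := by
  refine ⟨hirr.ne_zero, ?_⟩
  intro Q hQ hdvd
  have hassoc : Associated Q (X ^ r - C z : F[X]) := hQ.associated_of_dvd hirr hdvd
  rw [natDegree_eq_of_degree_eq (degree_eq_degree_of_associated hassoc),
    natDegree_X_pow_sub_C]

theorem padic_le_of_nonpower (hF : Fintype.card F = q ^ 2) {r : ℕ} (hr : r.Prime)
    (hrq : r ∣ q + 1) {z : F} (hz1 : z ^ (q + 1) = 1)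
    (hz : ∀ w : F, w ^ (q + 1) = 1 → w ^ r ≠ z) {k : ℕ} (hk0 : k ≠ 0) (hk : z ^ k = 1) :
    padicValNat r (q + 1) ≤ padicValNat r k := by
  haveI : Fact r.Prime := ⟨hr⟩
  by_contra hlt
  have hlt' : padicValNat r k < padicValNat r (q + 1) := by omega
  have hv : padicValNat r (r * k) ≤ padicValNat r (q + 1) := by
    rw [padicValNat.mul hr.ne_zero hk0, padicValNat_self]
    omega
  obtain ⟨lam, hl1, hl2⟩ := Cfsg.Agent.Helper49.UNdV3.exists_unitary_root hF r hr (r * k)
    (Nat.one_le_iff_ne_zero.2 (mul_ne_zero hr.ne_zero hk0)) (dvd_mul_right r k) z hz1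
    (by rw [Nat.mul_div_cancel_left _ hr.pos]; exact hk) hv
  exact hz lam hl1 hl2

/-- existence of a norm-one element which is not an `r`-th power of a norm-one element and
whose order is the `r`-part of `q + 1` -/
theorem exists_nonpower (hF : Fintype.card F = q ^ 2) {r : ℕ} (hr : r.Prime)
    (hrq : r ∣ q + 1) :
    ∃ z : F, z ^ (q + 1) = 1 ∧ (∀ w : F, w ^ (q + 1) = 1 → w ^ r ≠ z) ∧
      z ^ (r ^ padicValNat r (q + 1)) = 1 := by
  haveI : Fact r.Prime := ⟨hr⟩
  set e := padicValNat r (q + 1) with he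
  have hv : padicValNat r (q + 1) < padicValNat r (r ^ (e + 1)) := by
    rw [padicValNat.prime_pow]
    omega
  obtain ⟨z, hz1, hz2, hz3⟩ := Cfsg.Agent.Helper49.UNdV5.exists_bad_z_r hF r hr hrq
    (r ^ (e + 1)) (Nat.one_le_iff_ne_zero.2 (pow_ne_zero _ hr.ne_zero)) hv
  refine ⟨z, hz1, ?_, ?_⟩
  · intro w hw1 hw2
    exact hz2 ⟨w, hw1, hw2⟩
  · rw [pow_succ, Nat.mul_div_cancel _ hr.pos] at hz3
    exact hz3

end Cfsg.Agent.Helper94.Uh
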