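import Mathlib
import Cfsg.Agent.Helper94.Uh.Conc
import Cfsg.Agent.Helper43.GUPrimeC

set_option autoImplicit false
set_option linter.unusedSectionVars false
set_option linter.unusedVariables false

/-!
# (Z1B) a matrix with `A ^ r = z • 1`, `X ^ r - C z` irreducible, `r` odd:
`r ∣ n`, the characteristic polynomial is `(X ^ r - C z) ^ (n / r)` and `det A = z ^ (n / r)`

Every monic irreducible factor of `A.charpoly` divides the annihilating polynomial `X ^ r - C z`
(`Helper43.SS.dvd_of_dvd_charpoly`, needs squarefree: irreducible), hence equals it; so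
`A.charpoly = (X ^ r - C z) ^ k` (unique factorisation), `n = r k`, and
`det A = (-1) ^ n * A.charpoly.coeff 0 = (-1) ^ n * (-z) ^ k = z ^ k` as `n + k = k (r + 1)` is
even.
-/

namespace Cfsg.Agent.Helper94.Uh

open Module Polynomial

universe u

variable {F : Type u} [Field F] {n : ℕ}

theorem charpoly_of_irreducible {r : ℕ} (hr : 0 < r) {A : Matrix (Fin n) (Fin n) F} {z : F}
    (hAz : A ^ r = z • (1 : Matrix (Fin n) (Fin n) F))
    (hirr : Irreducible (X ^ r - C z : F[X])) :
    r ∣ n ∧ A.charpoly = (X ^ r - C z : F[X]) ^ (n / r) := by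
  classical
  set Q : F[X] := X ^ r - C z with hQ
  have hQm : Q.Monic := monic_X_pow_sub_C z hr.ne'
  have hAQ : aeval A Q = 0 := by
    rw [hQ, map_sub, map_pow, aeval_X, aeval_C, hAz, Algebra.algebraMap_eq_smul_one, sub_self]
  have hcm : A.charpoly.Monic := Matrix.charpoly_monic A
  have hfin : FiniteMultiplicity Q A.charpoly :=
    FiniteMultiplicity.of_not_isUnit hirr.not_isUnit hcm.ne_zero
  obtain ⟨c, hc, hQc⟩ := hfin.exists_eq_pow_mul_and_not_dvd
  set k := multiplicity Q A.charpoly with hk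
  have hc0 : c ≠ 0 := by
    rintro rfl
    rw [mul_zero] at hc
    exact hcm.ne_zero hc
  have hcu : IsUnit c := by
    by_contra hnu
    obtain ⟨P, hPi, hPc⟩ := WfDvdMonoid.exists_irreducible_factor hnu hc0
    have hP'm : (normalize P).Monic := Polynomial.monic_normalize hPi.ne_zero
    have hP'i : Irreducible (normalize P) := (associated_normalize P).irreducible hPi
    have hP'c : normalize P ∣ c := normalize_dvd_iff.mpr hPc
    have hP'A : normalize P ∣ A.charpoly := by
      rw [hc]
      exact hP'c.mul_left _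
    have hP'Q : normalize P ∣ Q :=
      Cfsg.Agent.Helper43.SS.dvd_of_dvd_charpoly A Q hirr.squarefree hAQ _ hP'm hP'i hP'A
    have h1 : normalize P = Q :=
      eq_of_monic_of_associated hP'm hQm (hP'i.associated_of_dvd hirr hP'Q)
    rw [h1] at hP'c
    exact hQc hP'c
  obtain ⟨a, ha, rfl⟩ := Polynomial.isUnit_iff.mp hcu
  have ha1 : a = 1 := by
    have h1 := congrArg Polynomial.leadingCoeff hc
    rw [hcm.leadingCoeff, leadingCoeff_mul, (hQm.pow k).leadingCoeff, leadingCoeff_C,
      one_mul] at h1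
    exact h1.symm
  rw [ha1, map_one, mul_one] at hc
  have hdeg : n = k * r := by
    have h1 := congrArg Polynomial.natDegree hc
    rw [Matrix.charpoly_natDegree_eq_dim, Fintype.card_fin, natDegree_pow, hQ,
      natDegree_X_pow_sub_C] at h1
    exact h1
  have hkr : n / r = k := by
    rw [hdeg, Nat.mul_div_cancel _ hr]
  exact ⟨⟨k, by rw [hdeg, mul_comm]⟩, by rw [hkr]; exact hc⟩

theorem det_of_irreducible {r : ℕ} (hodd : Odd r) {A : Matrix (Fin n) (Fin n) F} {z : F}
    (hAz : A ^ r = z • (1 : Matrix (Fin n) (Fin n) F))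
    (hirr : Irreducible (X ^ r - C z : F[X])) : r ∣ n ∧ A.det = z ^ (n / r) := by
  have hr : 0 < r := hodd.pos
  obtain ⟨hdvd, hcp⟩ := charpoly_of_irreducible hr hAz hirr
  refine ⟨hdvd, ?_⟩
  obtain ⟨k, hk⟩ := hdvd
  have hkr : n / r = k := by rw [hk, Nat.mul_div_cancel_left _ hr]
  rw [Matrix.det_eq_sign_charpoly_coeff, Fintype.card_fin, hcp, hkr,
    Polynomial.coeff_zero_eq_eval_zero, eval_pow, eval_sub, eval_pow, eval_X, eval_C,
    zero_pow hr.ne', zero_sub, neg_pow z k, ← mul_assoc, ← pow_add]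
  have heven : Even (n + k) := by
    obtain ⟨j, hj⟩ := hodd
    rw [hk, hj]
    exact ⟨(j + 1) * k, by ring⟩
  rw [heven.neg_one_pow, one_mul]

end Cfsg.Agent.Helper94.Uh
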