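import Mathlib
import Cfsg.Agent.Helper94.Uh.Conc
import Cfsg.Agent.Helper94.Uh.P_COMPL
import Cfsg.Agent.Helper94.Uh.P_SDBIG
import Cfsg.Agent.Helper94.Uh.P_Z1A

set_option autoImplicit false
set_option linter.unusedSectionVars false
set_option linter.unusedVariables false

/-!
# (Z1D) a unitary matrix with `A ^ r = z • 1`, `X ^ r - C z` irreducible: totally isotropic
invariant subspaces of every dimension `m` with `r ∣ m`, `2 m ≤ n`

`N := r * (q + 1)`: `A ^ N = 1`, `(N : F) ≠ 0` (`r ≠ p`, `q ≡ 0`), `uIso_of`.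
`UIso.stack` with `S = ⊤`, `i = r`, `thr = r + 2` (`nd_top`): for `W` invariant of dimension
`≥ r + 2`, `exists_ti_cyclic` gives `u ≠ 0` with `cycSub y u` totally isotropic; its dimension is
`≤ r` (`Helper99.SpStruct.finrank_cycSub_le` with `P = X ^ r - C z`), positive and divisible by
`r` (`Helper59.InvChain.dvd_finrank_of_inv` with `hp_of_irreducible`), hence `= r`.
For `m = (b' + 1) r`: `r + 2 + 2 b' r ≤ 2 m ≤ n`.  `m = 0`: `W = ⊥`.
-/

namespace Cfsg.Agent.Helper94.Uh

open Module Polynomial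
open Cfsg.Agent.Helper59.InvChain Cfsg.Agent.Helper59.Elusive
open Cfsg.Agent.S0837

universe u

variable {F : Type u} [Field F] [Fintype F] {q n : ℕ} {p : ℕ} [Fact p.Prime] [CharP F p]

/-- `q` vanishes in a field with `q ^ 2` elements -/
private theorem Z1D_q_cast (hF : Fintype.card F = q ^ 2) : (q : F) = 0 := by
  have h1 : ((q ^ 2 : ℕ) : F) = 0 := by rw [← hF]; exact Nat.cast_card_eq_zero F
  rw [Nat.cast_pow] at h1
  exact pow_eq_zero_iff (by norm_num) |>.mp h1

theorem good_of_irreducible (hF : Fintype.card F = q ^ 2) (r : ℕ) [Fact r.Prime] (hrp : r ≠ p)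
    (hr2 : r ≠ 2) {A : Matrix (Fin n) (Fin n) F} (hA : IsUM n q A) {z : F}
    (hz1 : z ^ (q + 1) = 1) (hAz : A ^ r = z • (1 : Matrix (Fin n) (Fin n) F))
    (hirr : Irreducible (X ^ r - C z : F[X])) {m : ℕ} (hrm : r ∣ m) (hmn : 2 * m ≤ n) :
    GoodU n q m A := by
  have hr : r.Prime := Fact.out
  have hr3 : 3 ≤ r := by
    have := hr.two_le
    omega
  have hodd : Odd r := hr.odd_of_ne_two hr2
  have hz0 : z ≠ 0 := by
    rintro rfl
    rw [zero_pow (by omega)] at hz1
    exact zero_ne_one hz1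
  -- `A ^ N = 1` with `N = r * (q + 1)` invertible in `F`
  have hAN : A ^ (r * (q + 1)) = 1 := by
    rw [pow_mul, hAz, _root_.smul_pow, one_pow, hz1, one_smul]
  have hN : ((r * (q + 1) : ℕ) : F) ≠ 0 := by
    rw [Nat.cast_mul, Nat.cast_add, Nat.cast_one, Z1D_q_cast hF, zero_add, mul_one]
    exact Cfsg.Agent.Helper99.RDecomp.natCast_ne_zero_of_ne r hrp
  have hU : UIso (hB hF n) (Matrix.toLin' A) (r * (q + 1)) := uIso_of hF hA hN hAN
  set y : Module.End F (Fin n → F) := Matrix.toLin' A with hy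
  have hyr : y ^ r = z • (1 : Module.End F (Fin n → F)) := by
    rw [hy, toLin_pow, hAz, map_smul, Matrix.toLin'_one]
    rfl
  -- the polynomial `P = X ^ r - C z` kills `y`
  have hP0 : (X ^ r - C z : F[X]) ≠ 0 := hirr.ne_zero
  have hPdeg : (X ^ r - C z : F[X]).natDegree = r := natDegree_X_pow_sub_C
  have hkill : ∀ u : Fin n → F, (aeval y (X ^ r - C z : F[X])) u = 0 := by
    intro u
    rw [map_sub, map_pow, aeval_X, aeval_C, hyr, Algebra.algebraMap_eq_smul_one, sub_self,
      LinearMap.zero_apply]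
  have hHP : HP (X ^ r - C z : F[X]) r := hp_of_irreducible hr.pos hirr
  rcases Nat.eq_zero_or_pos m with hm0 | hmpos
  · -- `m = 0`
    subst hm0
    refine ⟨⊥, finrank_bot F _, ?_, ?_⟩
    · intro u hu v _
      rw [(Submodule.mem_bot F).mp hu]
      unfold Cfsg.hermForm
      simp
    · rw [Submodule.map_bot]
  · obtain ⟨t, rfl⟩ := hrm
    have htpos : 0 < t := by
      rcases Nat.eq_zero_or_pos t with h0 | h0
      · rw [h0, mul_zero] at hmpos; omega
      · exact h0
    obtain ⟨b', rfl⟩ : ∃ b', t = b' + 1 := ⟨t - 1, by omega⟩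
    have hex : ∀ W : Submodule F (Fin n → F), Inv y W → Nd (hB hF n) W → W ≤ ⊤ →
        r + 2 ≤ finrank F ↥W →
        ∃ U₀ : Submodule F (Fin n → F), U₀ ≤ W ∧ Inv y U₀ ∧ Orth (hB hF n) U₀ U₀ ∧
          finrank F ↥U₀ = r := by
      intro W hWinv _ _ hdim
      obtain ⟨u, huW, hu0, hti⟩ := exists_ti_cyclic hU.symm hU.isom hodd hz0 hyr hWinv hdim
      refine ⟨Cfsg.Agent.Helper99.SpStruct.cycSub y u,
        Cfsg.Agent.Helper99.SpStruct.cycSub_le y hWinv huW,
        Cfsg.Agent.Helper99.SpStruct.inv_cycSub y u, hti, ?_⟩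
      have hle : finrank F ↥(Cfsg.Agent.Helper99.SpStruct.cycSub y u) ≤ r := by
        have := Cfsg.Agent.Helper99.SpStruct.finrank_cycSub_le y u (X ^ r - C z) hP0 (hkill u)
        rwa [hPdeg] at this
      have hdvd : r ∣ finrank F ↥(Cfsg.Agent.Helper99.SpStruct.cycSub y u) :=
        dvd_finrank_of_inv y (X ^ r - C z) r hr.pos hHP _
          (Cfsg.Agent.Helper99.SpStruct.inv_cycSub y u) (fun u' _ => hkill u')
      have hpos : 0 < finrank F ↥(Cfsg.Agent.Helper99.SpStruct.cycSub y u) := by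
        rw [Module.finrank_pos_iff_exists_ne_zero]
        exact ⟨⟨u, Cfsg.Agent.Helper99.SpStruct.self_mem_cycSub y u⟩,
          fun h => hu0 (congrArg Subtype.val h)⟩
      exact le_antisymm hle (Nat.le_of_dvd hpos hdvd)
    have hdimtop : r + 2 + 2 * (b' * r) ≤ finrank F ↥(⊤ : Submodule F (Fin n → F)) := by
      rw [finrank_top, finrank_space]
      have : r * (b' + 1) = b' * r + r := by ring
      omega
    obtain ⟨U, -, hUinv, hUti, hUdim⟩ := hU.stack ⊤ r (r + 2) hex b' ⊤ (inv_top y)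
      (nd_top hU.nondeg hU.symm) le_rfl hdimtop
    exact goodU_of_exists hF ⟨U, by rw [hUdim, mul_comm], hUti, hUinv⟩

end Cfsg.Agent.Helper94.Uh
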