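import Mathlib
import Cfsg.Agent.Helper94.Uh.Conc
import Cfsg.Agent.Helper94.Uh.P_Z1A
import Cfsg.Agent.Helper94.Uh.P_Z1B
import Cfsg.Agent.Helper38.PGUExist

set_option autoImplicit false
set_option linter.unusedSectionVars false
set_option linter.unusedVariables false

/-!
# (Z3) the case `r ∣ q + 1`: necessity of `r ∣ m ∨ v_r(n) ≤ v_r(q + 1)`

Suppose `r ∤ m` and `v_r(q + 1) < v_r(n)`; so `r ∣ n` and `r ^ v_r(q+1) ∣ n / r`.
`exists_nonpower` gives `z`; `f := (X ^ r - C z) ^ (n / r)` is monic of degree `n`, `f(0) ≠ 0`,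
`utilde`-fixed (`Helper38.PGU.utilde_X_pow_sub_C` with `d = z`, `z * z ^ q = 1`,
`Helper43.GUPrime.utilde_pow`); `Helper38.PGU.exists_GU_charpoly` gives a unitary matrix `A` of
order prime to `p` with characteristic polynomial `f`; then `A ^ r = z • 1`
(`Helper43.SS.aeval_eq_zero_of_factors` with `g = X ^ r - C z`, irreducible by
`irreducible_of_nonpower`), `det A = z ^ (n / r) = 1` (`det_of_irreducible`), `A` is not scalar
(`nonpower_of_norm_nonpower`), so `H` gives an invariant `m`-space; all invariant subspaces have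
dimension divisible by `r` (`Helper59.InvChain.dvd_finrank_of_inv`, `hp_of_irreducible`).
-/

namespace Cfsg.Agent.Helper94.Uh

open Module Polynomial
open Cfsg.Agent.Helper59.InvChain Cfsg.Agent.Helper59.Elusive

universe u

variable {F : Type u} [Field F] [Fintype F] {q n : ℕ} {p : ℕ} [Fact p.Prime] [CharP F p]

theorem cond_nonpower (hF : Fintype.card F = q ^ 2) (r : ℕ) [Fact r.Prime] (hrp : r ≠ p)
    (hr2 : r ≠ 2) (hrq : r ∣ q + 1) {m : ℕ} (hm : 1 ≤ m) (hmn : 2 * m ≤ n)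
    (H : UHyp F n q m r) : r ∣ m ∨ padicValNat r n ≤ padicValNat r (q + 1) := by
  have hr : r.Prime := Fact.out
  have hp : p.Prime := Fact.out
  have hodd : Odd r := hr.odd_of_ne_two hr2
  by_contra hcon
  push Not at hcon
  obtain ⟨hrm, hv⟩ := hcon
  have hn0 : n ≠ 0 := by omega
  -- `r ^ (v + 1) ∣ n`
  have h1 : r ^ (padicValNat r (q + 1) + 1) ∣ n := (padicValNat_dvd_iff_le hn0).mpr (by omega)
  obtain ⟨k, hk⟩ := h1
  have hrn : r ∣ n := ⟨r ^ padicValNat r (q + 1) * k, by rw [hk, pow_succ]; ring⟩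
  have hnr : n / r = r ^ padicValNat r (q + 1) * k := by
    rw [hk, pow_succ]
    rw [show r ^ padicValNat r (q + 1) * r * k = r * (r ^ padicValNat r (q + 1) * k) by ring]
    exact Nat.mul_div_cancel_left _ hr.pos
  obtain ⟨z, hz1, hznp, hzv⟩ := exists_nonpower hF hr hrq
  have hirr : Irreducible (X ^ r - C z : F[X]) := irreducible_of_nonpower hF hr hr2 hrq hz1 hznp
  have hz0 : z ≠ 0 := by
    rintro rfl
    rw [zero_pow (by omega)] at hz1
    exact zero_ne_one hz1
  -- the characteristic polynomial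
  have hfm : ((X ^ r - C z : F[X]) ^ (n / r)).Monic := (monic_X_pow_sub_C z hr.ne_zero).pow _
  have hfd : ((X ^ r - C z : F[X]) ^ (n / r)).natDegree = n := by
    rw [natDegree_pow, natDegree_X_pow_sub_C, Nat.div_mul_cancel hrn]
  have hf0 : ((X ^ r - C z : F[X]) ^ (n / r)).coeff 0 ≠ 0 := by
    rw [coeff_zero_eq_eval_zero, eval_pow, eval_sub, eval_pow, eval_X, eval_C,
      zero_pow hr.ne_zero, zero_sub]
    exact pow_ne_zero _ (neg_ne_zero.mpr hz0)
  have hzbar : z * Cfsg.Agent.S0837.frobHom hF z = 1 := by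
    rw [Cfsg.Agent.S0837.frobHom_apply, ← pow_succ']
    exact hz1
  have hfu : Cfsg.Agent.Helper43.GUPrime.utilde (Cfsg.Agent.S0837.frobHom hF)
      ((X ^ r - C z : F[X]) ^ (n / r)) = (X ^ r - C z : F[X]) ^ (n / r) := by
    rw [Cfsg.Agent.Helper43.GUPrime.utilde_pow,
      Cfsg.Agent.Helper38.PGU.utilde_X_pow_sub_C _ hr.pos z hzbar]
  obtain ⟨B, hBchar, k', hk'0, hk'p, hBk⟩ := Cfsg.Agent.Helper38.PGU.exists_GU_charpoly p hF
    (Cfsg.Agent.S0837.frobHom hF) (Cfsg.Agent.S0837.frobHom_apply hF) n _ hfm hfd hf0 hfu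
  set A : Matrix (Fin n) (Fin n) F := ((B : GL (Fin n) F) : Matrix (Fin n) (Fin n) F) with hAdef
  have hA : IsUM n q A := fun u v => B.2 u v
  have hAk : A ^ k' = 1 := by
    have h2 := congrArg (fun g : ↥(Cfsg.GU n F q) => ((g : GL (Fin n) F) : Matrix (Fin n) (Fin n) F)) hBk
    simpa using h2
  have hk'F : (k' : F) ≠ 0 := by
    intro h0
    rw [CharP.cast_eq_zero_iff F p k'] at h0
    have : p ∣ Nat.gcd k' p := Nat.dvd_gcd h0 dvd_rfl
    rw [hk'p] at this
    exact hp.one_lt.ne' (Nat.dvd_one.mp this)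
  -- `A ^ r = z • 1`
  have hae : aeval A (X ^ r - C z : F[X]) = 0 := by
    apply Cfsg.Agent.Helper43.SS.aeval_eq_zero_of_factors A k' hk'F hAk _ hirr.ne_zero
    intro P _ hPirr hPdvd
    rw [hBchar] at hPdvd
    exact hPirr.prime.dvd_of_dvd_pow hPdvd
  have hAz : A ^ r = z • (1 : Matrix (Fin n) (Fin n) F) := by
    rw [map_sub, map_pow, aeval_X, aeval_C, Algebra.algebraMap_eq_smul_one, sub_eq_zero] at hae
    exact hae
  -- determinant one
  have hdet : A.det = 1 := by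
    rw [(det_of_irreducible hodd hAz hirr).2, hnr, pow_mul, hzv, one_pow]
  -- not scalar
  have hns : ∀ w : F, A ≠ w • (1 : Matrix (Fin n) (Fin n) F) := by
    intro w hw
    have h2 : (w ^ r) • (1 : Matrix (Fin n) (Fin n) F) = z • (1 : Matrix (Fin n) (Fin n) F) := by
      rw [← hAz, hw, _root_.smul_pow, one_pow]
    have h3 := congrFun (congrFun h2 ⟨0, Nat.pos_of_ne_zero hn0⟩) ⟨0, Nat.pos_of_ne_zero hn0⟩
    rw [Matrix.smul_apply, Matrix.smul_apply, Matrix.one_apply_eq, smul_eq_mul, smul_eq_mul,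
      mul_one, mul_one] at h3
    exact nonpower_of_norm_nonpower hF hr hr2 hrq hz1 hznp w h3
  obtain ⟨W, hWdim, -, hWinv⟩ := H A hA hdet ⟨z, hAz⟩ hns
  apply hrm
  rw [← hWdim]
  apply dvd_finrank_of_inv (Matrix.toLin' A) (X ^ r - C z) r hr.pos
    (hp_of_irreducible hr.pos hirr) W hWinv
  intro u _
  rw [map_sub, map_pow, aeval_X, aeval_C, toLin_pow, hAz, map_smul, Matrix.toLin'_one,
    Algebra.algebraMap_eq_smul_one]
  show (z • (LinearMap.id : (Fin n → F) →ₗ[F] (Fin n → F)) - z • 1) u = 0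
  rw [show (1 : Module.End F (Fin n → F)) = LinearMap.id from rfl, sub_self, LinearMap.zero_apply]

end Cfsg.Agent.Helper94.Uh
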