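import Mathlib
import Cfsg.Agent.Helper94.Uh.Red
import Cfsg.Agent.Helper94.Uh.P_NEC
import Cfsg.Agent.Helper94.Uh.P_DET
import Cfsg.Agent.Helper94.Uh.P_R2E
import Cfsg.Agent.Helper94.Uh.P_R2D
import Cfsg.Agent.Helper94.Uh.P_R2C
import Cfsg.Agent.Helper59.PolarD

set_option autoImplicit false
set_option linter.unusedSectionVars false
set_option linter.unusedVariables false

/-!
# The case `r = 2` of S5953 (assembly)
-/

namespace Cfsg.Agent.Helper94.Uh

open Module Polynomial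
open Cfsg.Agent.Helper59.InvChain Cfsg.Agent.Helper59.Elusive
open Cfsg.Agent.Helper99.RDecomp
open Cfsg.Agent.S0837

universe u

variable {F : Type u} [Field F] [Fintype F] {q n : ℕ} {p : ℕ} [Fact p.Prime] [CharP F p]

theorem inv_of_le_cycSp_two {V : Type*} [AddCommGroup V] [Module F V] {y : V →ₗ[F] V}
    {U : Submodule F V} (hU : U ≤ cycSp 2 y) : Inv y U := by
  rw [inv_iff]
  intro u hu
  have h1 : u ∈ cycSp 2 y := hU hu
  unfold cycSp at h1
  rw [LinearMap.mem_ker, Polynomial.cyclotomic_two] at h1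
  simp only [map_add, aeval_X, map_one, LinearMap.add_apply, Module.End.one_apply] at h1
  have : y u = -u := eq_neg_of_add_eq_zero_left h1
  rw [this]
  exact U.neg_mem hu

theorem two_ne_zero_of (hp2 : p ≠ 2) : (2 : F) ≠ 0 := by
  intro h
  have h' : ((2 : ℕ) : F) = 0 := by exact_mod_cast h
  rw [CharP.cast_eq_zero_iff F p] at h'
  have := (Nat.prime_dvd_prime_iff_eq (Fact.out : p.Prime) Nat.prime_two).mp h'
  exact hp2 this

/-- sufficiency for `r = 2` -/
theorem good_two (hF : Fintype.card F = q ^ 2) (hp2 : p ≠ 2) (hn : 0 < n) {m : ℕ}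
    (hmn : 2 * m ≤ n) (hc : 2 * m < n ∨ padicValNat 2 (q + 1) ≤ padicValNat 2 n)
    {A : Matrix (Fin n) (Fin n) F} (hA : IsUM n q A) (hdet : A.det = 1) {z : F}
    (hAz : A ^ 2 = z • (1 : Matrix (Fin n) (Fin n) F)) : GoodU n q m A := by
  have : Fact (Nat.Prime 2) := ⟨Nat.prime_two⟩
  have h2 : (2 : F) ≠ 0 := two_ne_zero_of hp2
  have hz1 : z ^ (q + 1) = 1 := by
    apply norm_one_of_isUM_smul_one hn
    rw [← hAz]
    exact isUM_pow hA 2
  obtain ⟨w, hw2, hwN⟩ := exists_sqrt_norm hF h2 hz1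
  have hz0 : z ≠ 0 := by
    rintro rfl
    rw [zero_pow (by omega)] at hz1
    exact zero_ne_one hz1
  have hw0 : w ≠ 0 := by
    rintro rfl
    rw [zero_pow (by omega)] at hw2
    exact hz0 hw2.symm
  rcases hwN with h1 | h1
  · -- `w` has norm one: `w⁻¹ • A` is a unitary involution
    rw [← goodU_smul (inv_ne_zero hw0)]
    have hA' : IsUM n q (w⁻¹ • A) := isUM_smul hA (by rw [inv_pow, h1, inv_one])
    have hA'2 : (w⁻¹ • A) ^ 2 = 1 := by
      rw [_root_.smul_pow, hAz, smul_smul, inv_pow, hw2, inv_mul_cancel₀ hz0, one_smul]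
    have hs := hSetup_of hF 2 (Ne.symm hp2) hA' hA'2
    have htot := hs.setup.total
    rw [finrank_space] at htot
    by_cases hle : m ≤ finrank F ↥(fixSp (Matrix.toLin' (w⁻¹ • A))) / 2 +
        finrank F ↥(cycSp 2 (Matrix.toLin' (w⁻¹ • A))) / 2
    · -- construction
      obtain ⟨a', e, hae, ha', he⟩ : ∃ a' e : ℕ, a' + e = m ∧
          2 * a' ≤ finrank F ↥(fixSp (Matrix.toLin' (w⁻¹ • A))) ∧
          2 * e ≤ finrank F ↥(cycSp 2 (Matrix.toLin' (w⁻¹ • A))) := by
        refine ⟨min m (finrank F ↥(fixSp (Matrix.toLin' (w⁻¹ • A))) / 2),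
          m - min m (finrank F ↥(fixSp (Matrix.toLin' (w⁻¹ • A))) / 2), ?_, ?_, ?_⟩ <;> omega
      obtain ⟨U, hUle, hUti, hUdim⟩ := exists_ti_sub hs.symm hs.sigma_sigma hs.sigma_ne_id e
        (cycSp 2 (Matrix.toLin' (w⁻¹ • A))) hs.nd_cyc he
      obtain ⟨W, hWdim, hWti, hWinv⟩ := exists_ti_of_parts hs ha' hUle
        (inv_of_le_cycSp_two hUle) hUti hUdim
      exact goodU_of_exists hF ⟨W, by rw [hWdim, hae], hWti, hWinv⟩
    · -- obstruction: both eigenspaces have odd dimension and `2 m = n`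
      exfalso
      have hdet' := det_of_sq_eq_one h2 hA'2
      rw [Matrix.det_smul, hdet, mul_one, Fintype.card_fin] at hdet'
      have hodd : Odd (finrank F ↥(cycSp 2 (Matrix.toLin' (w⁻¹ • A)))) := by
        rw [Nat.odd_iff]
        omega
      rw [hodd.neg_one_pow, inv_pow] at hdet'
      have hwn : w ^ n = -1 := by
        have := congrArg (fun t => t⁻¹) hdet'
        simp only [inv_inv] at this
        rw [this, inv_neg, inv_one]
      have hlt := Cfsg.Agent.Helper59.Polar.lt_of_norm_one_pow_eq_neg_one h2 hn w h1 hwn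
      rcases hc with hc | hc <;> omega
  · -- `w` has norm `-1`
    exact good_of_anti hF h2 hA h1 (by rw [hAz, hw2]) hmn

/-- necessity for `r = 2` -/
theorem cond_two (hF : Fintype.card F = q ^ 2) (hp2 : p ≠ 2) (hn : 2 ≤ n) {m : ℕ}
    (hm : 1 ≤ m) (hmn : 2 * m ≤ n) (H : UHyp F n q m 2) :
    2 * m < n ∨ padicValNat 2 (q + 1) ≤ padicValNat 2 n := by
  have : Fact (Nat.Prime 2) := ⟨Nat.prime_two⟩
  have h2 : (2 : F) ≠ 0 := two_ne_zero_of hp2
  by_contra hcon
  push Not at hcon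
  obtain ⟨hnm, hlt⟩ := hcon
  obtain ⟨c, hc1, hcn⟩ := Cfsg.Agent.Helper59.Polar.exists_norm_one_pow_eq_neg_one hF h2
    (by omega : 0 < n) hlt
  obtain ⟨D, hD, hD2, hDdet, hDfix, hDns⟩ := exists_refl (q := q) hF h2 hn
  have hc0 : c ≠ 0 := by
    rintro rfl
    rw [zero_pow (by omega)] at hc1
    exact zero_ne_one hc1
  have hgood : GoodU n q m (c • D) := by
    apply H (c • D) (isUM_smul hD hc1)
    · rw [Matrix.det_smul, Fintype.card_fin, hcn, hDdet]
      ring
    · exact ⟨c ^ 2, by rw [_root_.smul_pow, hD2]⟩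
    · intro z hz
      apply hDns (c⁻¹ * z)
      rw [← smul_smul, ← hz, smul_smul, inv_mul_cancel₀ hc0, one_smul]
  rw [goodU_smul hc0] at hgood
  obtain ⟨W, hWdim, hWti, hWinv⟩ := exists_of_goodU hF hgood
  have hs := hSetup_of hF 2 (Ne.symm hp2) hD hD2
  have htot := hs.setup.total
  rw [finrank_space] at htot
  obtain ⟨hsplit, hfx, -, hcy⟩ := ti_inv_split hs hWinv hWti
  omega

end Cfsg.Agent.Helper94.Uh
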