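import Mathlib
import Cfsg.Agent.Helper94.Uh.Red
import Cfsg.Agent.Helper94.Uh.P_AR
import Cfsg.Agent.Helper94.Uh.P_Z1A
import Cfsg.Agent.Helper94.Uh.P_Z1B
import Cfsg.Agent.Helper94.Uh.P_Z1D

set_option autoImplicit false
set_option linter.unusedSectionVars false
set_option linter.unusedVariables false

/-!
# The case `r ∣ q + 1` of S5953: sufficiency (assembly)
-/

namespace Cfsg.Agent.Helper94.Uh

open Module Polynomial
open Cfsg.Agent.Helper59.InvChain Cfsg.Agent.Helper59.Elusive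
open Cfsg.Agent.Helper99.RDecomp
open Cfsg.Agent.S0837

universe u

variable {F : Type u} [Field F] [Fintype F] {q n : ℕ} {p : ℕ} [Fact p.Prime] [CharP F p]

/-- `A ^ r = z • 1` with `z` not an `r`-th power of a norm-one element -/
theorem good_of_nonpower (hF : Fintype.card F = q ^ 2) (r : ℕ) [Fact r.Prime] (hrp : r ≠ p)
    (hr2 : r ≠ 2) (hrq : r ∣ q + 1) (hn : 0 < n) {m : ℕ} (hmn : 2 * m ≤ n)
    (hc : r ∣ m ∨ padicValNat r n ≤ padicValNat r (q + 1))
    {A : Matrix (Fin n) (Fin n) F} (hA : IsUM n q A) (hdet : A.det = 1) {z : F}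
    (hAz : A ^ r = z • (1 : Matrix (Fin n) (Fin n) F))
    (hz : ∀ w : F, w ^ (q + 1) = 1 → w ^ r ≠ z) : GoodU n q m A := by
  have hr : r.Prime := Fact.out
  have hz1 : z ^ (q + 1) = 1 := by
    apply norm_one_of_isUM_smul_one hn
    rw [← hAz]
    exact isUM_pow hA r
  have hirr := irreducible_of_nonpower hF hr hr2 hrq hz1 hz
  have hodd : Odd r := hr.odd_of_ne_two hr2
  obtain ⟨hrn, hdet'⟩ := det_of_irreducible hodd hAz hirr
  have hk : z ^ (n / r) = 1 := by rw [← hdet', hdet]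
  have hk0 : n / r ≠ 0 := (Nat.div_pos (Nat.le_of_dvd hn hrn) hr.pos).ne'
  have hpad := padic_le_of_nonpower hF hr hrq hz1 hz hk0 hk
  have hdiv : padicValNat r (n / r) = padicValNat r n - 1 := padicValNat.div hrn
  have hpos : 1 ≤ padicValNat r n := one_le_padicValNat_of_dvd (by omega) hrn
  have hrm : r ∣ m := by
    rcases hc with hc | hc
    · exact hc
    · omega
  exact good_of_irreducible hF r hrp hr2 hA hz1 hAz hirr hrm hmn

/-- sufficiency in the case `r ∣ q + 1` -/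
theorem good_of_dvd (hF : Fintype.card F = q ^ 2) (r : ℕ) [Fact r.Prime] (hrp : r ≠ p)
    (hr2 : r ≠ 2) (hrq : r ∣ q + 1) (hn : 0 < n) {m : ℕ} (hmn : 2 * m ≤ n)
    (hcond : r - 1 + 2 * m ≤ n)
    (hc : r ∣ m ∨ padicValNat r n ≤ padicValNat r (q + 1))
    {A : Matrix (Fin n) (Fin n) F} (hA : IsUM n q A) (hdet : A.det = 1)
    (hz : ∃ z : F, A ^ r = z • (1 : Matrix (Fin n) (Fin n) F)) : GoodU n q m A := by
  have hr : r.Prime := Fact.out
  obtain ⟨z, hAz⟩ := hz
  by_cases hpow : ∃ w : F, w ^ (q + 1) = 1 ∧ w ^ r = z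
  · obtain ⟨w, hw1, hwr⟩ := hpow
    have hw0 : w ≠ 0 := by
      intro h0
      rw [h0, zero_pow (Nat.succ_ne_zero q)] at hw1
      exact zero_ne_one hw1
    have hwi1 : (w⁻¹) ^ (q + 1) = 1 := by rw [inv_pow, hw1, inv_one]
    have hA' : IsUM n q (w⁻¹ • A) := isUM_smul hA hwi1
    have hA'r : (w⁻¹ • A) ^ r = 1 := by
      rw [_root_.smul_pow, hAz, inv_pow, hwr, smul_smul, inv_mul_cancel₀, one_smul]
      rw [← hwr]
      exact pow_ne_zero r hw0
    rw [← goodU_smul (inv_ne_zero hw0)]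
    obtain ⟨hb1, hsd⟩ := two_case hr hr2 hrq
    have hb1' : orderOf ((Fintype.card F : ℕ) : ZMod r) = 1 := by rw [hF]; exact hb1
    apply good_of_cond hF r hrp hr2 hA' hA'r m hmn
    · rw [hb1', Nat.mod_one]
      exact Nat.zero_le _
    · right
      rw [hb1', Nat.div_one, Nat.div_one, Nat.div_one]
      exact hcond
  · push Not at hpow
    exact good_of_nonpower hF r hrp hr2 hrq hn hmn hc hA hdet hAz hpow

end Cfsg.Agent.Helper94.Uh
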